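import Cfsg.Agent.H33.Binary.Generic
import Cfsg.Prelude.Def_Involutions

/-!
Binary actions of a group with a single class of involutions: commuting involutions have the same
fixed points, and the stabiliser of such a set of fixed points is strongly embedded.
-/

set_option autoImplicit false
set_option linter.unusedSectionVars false

namespace Cfsg.Agent.H79.OneClassBinary

open MulAction Cfsg.Agent.H33.Binary
open scoped Pointwise

variable {G Ω : Type*} [Group G] [MulAction G Ω]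

/-- Gluing: the only way binarity is used. -/
theorem glue [Finite Ω] (hbin : IsBinaryAct G Ω) {A B C : Set Ω} {g p r : G} (hA : ∀ a ∈ A, p • a = a)
    (hpC : ∀ c ∈ C, p • c = g • c) (hB : ∀ b ∈ B, r • b = b) (hrC : ∀ c ∈ C, r • c = g • c) :
    ∃ k : G, (∀ a ∈ A, k • a = a) ∧ (∀ b ∈ B, k • b = b) ∧ ∀ c ∈ C, k • c = g • c := by
  classical
  by_cases hne : IsEmpty ((A ⊕ B) ⊕ C)
  · exact ⟨1, fun a _ => one_smul _ _, fun b _ => one_smul _ _,
      fun c hc => (hne.false (Sum.inr ⟨c, hc⟩)).elim⟩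
  rw [not_isEmpty_iff] at hne
  let P := ((A ⊕ B) ⊕ C) × Bool
  have : Fintype P := Fintype.ofFinite P
  let I₀ : P → Ω := fun x => Sum.elim (Sum.elim (fun y => y.1) (fun y => y.1)) (fun y => y.1) x.1
  let J₀ : P → Ω := fun x => Sum.elim (Sum.elim (fun y => y.1) (fun y => y.1)) (fun y => g • y.1) x.1
  have hn : 2 ≤ Fintype.card P := by
    obtain ⟨x⟩ := hne
    exact Fintype.one_lt_card_iff.mpr ⟨(x, true), (x, false), fun h => Bool.noConfusion (congrArg Prod.snd h)⟩
  have hpair : ∀ x y : P, ∃ k : G, k • I₀ x = J₀ x ∧ k • I₀ y = J₀ y := by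
    rintro ⟨(x | x) | x, _⟩ ⟨(y | y) | y, _⟩
    · exact ⟨1, one_smul _ _, one_smul _ _⟩
    · exact ⟨1, one_smul _ _, one_smul _ _⟩
    · exact ⟨p, hA _ x.2, hpC _ y.2⟩
    · exact ⟨1, one_smul _ _, one_smul _ _⟩
    · exact ⟨1, one_smul _ _, one_smul _ _⟩
    · exact ⟨r, hB _ x.2, hrC _ y.2⟩
    · exact ⟨p, hpC _ x.2, hA _ y.2⟩
    · exact ⟨r, hrC _ x.2, hB _ y.2⟩
    · exact ⟨g, rfl, rfl⟩
  let e := Fintype.equivFin P
  obtain ⟨k, hk⟩ := hbin _ (I₀ ∘ e.symm) (J₀ ∘ e.symm) hn fun i j _ => hpair _ _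
  have hk' : ∀ x : P, k • I₀ x = J₀ x := fun x => by simpa using hk (e x)
  exact ⟨k, fun a ha => hk' (Sum.inl (Sum.inl ⟨a, ha⟩), true),
    fun b hb => hk' (Sum.inl (Sum.inr ⟨b, hb⟩), true), fun c hc => hk' (Sum.inr ⟨c, hc⟩, true)⟩

/-- Binarity along a surjection and an equivariant bijection. -/
theorem isBinaryAct_congr {L Ω' : Type*} [Group L] [MulAction L Ω'] {σ : G →* L}
    (hσ : Function.Surjective σ) (Φ : Ω ≃ Ω') (h : ∀ g x, Φ (g • x) = σ g • Φ x) :
    IsBinaryAct G Ω ↔ IsBinaryAct L Ω' := by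
  have key : ∀ (g : G) (x y : Ω), g • x = y ↔ σ g • Φ x = Φ y := fun g x y => by
    rw [← h, Φ.apply_eq_iff_eq]
  constructor
  · intro hb n I J hn hp
    obtain ⟨g, hg⟩ := hb n (Φ.symm ∘ I) (Φ.symm ∘ J) hn fun i j hij => by
      obtain ⟨l, h1, h2⟩ := hp i j hij
      obtain ⟨g, rfl⟩ := hσ l
      exact ⟨g, (key _ _ _).mpr (by simpa using h1), (key _ _ _).mpr (by simpa using h2)⟩
    exact ⟨σ g, fun i => by simpa using (key _ _ _).mp (hg i)⟩
  · intro hb n I J hn hp
    obtain ⟨l, hl⟩ := hb n (Φ ∘ I) (Φ ∘ J) hn fun i j hij => by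
      obtain ⟨g, h1, h2⟩ := hp i j hij
      exact ⟨σ g, (key _ _ _).mp h1, (key _ _ _).mp h2⟩
    obtain ⟨g, rfl⟩ := hσ l
    exact ⟨g, fun i => (key _ _ _).mpr (hl i)⟩

/-- Binarity of a coset action along an isomorphism. -/
theorem isBinaryAct_map {L : Type*} [Group L] (e : G ≃* L) (H : Subgroup G) :
    IsBinaryAct G (G ⧸ H) ↔ IsBinaryAct L (L ⧸ H.map e.toMonoidHom) := by
  refine isBinaryAct_congr (σ := e.toMonoidHom) e.surjective
    (Quotient.congr e.toEquiv fun a b => ?_) fun g x => ?_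
  · show QuotientGroup.leftRel H a b ↔ QuotientGroup.leftRel (H.map e.toMonoidHom) (e a) (e b)
    rw [QuotientGroup.leftRel_apply, QuotientGroup.leftRel_apply, ← map_inv, ← map_mul]
    exact (Subgroup.mem_map_iff_mem e.injective).symm
  · induction x using QuotientGroup.induction_on with | H c => ?_
    show QuotientGroup.mk (e (g * c)) = _
    rw [map_mul]
    rfl

/-- Two involutions generate a dihedral group with central involution or are conjugate in it. -/
theorem invol_pair [Finite G] {t z : G} (ht : orderOf t = 2) (hz : orderOf z = 2) :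
    (∃ c : G, orderOf c = 2 ∧ Commute c t ∧ Commute c z) ∨
      ∃ d ∈ Subgroup.zpowers (t * z), t = d * z * d⁻¹ := by
  obtain ⟨ht2, ht1⟩ := orderOf_eq_prime_iff (p := 2).mp ht
  obtain ⟨hz2, hz1⟩ := orderOf_eq_prime_iff (p := 2).mp hz
  rw [pow_two] at ht2 hz2
  have hn : 0 < orderOf (t * z) := orderOf_pos _
  have hct : t * (t * z) * t⁻¹ = (t * z)⁻¹ := by
    rw [mul_inv_rev, inv_eq_of_mul_eq_one_right ht2, inv_eq_of_mul_eq_one_right hz2, ← mul_assoc, ht2, one_mul]
  have hcz : z * (t * z) * z⁻¹ = (t * z)⁻¹ := by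
    rw [mul_inv_rev, inv_eq_of_mul_eq_one_right ht2, inv_eq_of_mul_eq_one_right hz2]
    simp [mul_assoc, hz2]
  rcases Nat.even_or_odd (orderOf (t * z)) with ⟨m, hm⟩ | ⟨m, hm⟩
  · left
    have h2 : (t * z) ^ m * (t * z) ^ m = 1 := by rw [← pow_add, ← hm, pow_orderOf_eq_one]
    have h1 : (t * z) ^ m ≠ 1 := pow_ne_one_of_lt_orderOf (by omega) (by omega)
    refine ⟨(t * z) ^ m, orderOf_eq_prime (by rw [pow_two, h2]) h1, ?_, ?_⟩
    · show _ = _
      have := conj_pow (i := m) (a := t) (b := t * z)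
      rw [hct, inv_pow, inv_eq_of_mul_eq_one_right h2] at this
      exact mul_inv_eq_iff_eq_mul.mp this.symm |>.symm
    · show _ = _
      have := conj_pow (i := m) (a := z) (b := t * z)
      rw [hcz, inv_pow, inv_eq_of_mul_eq_one_right h2] at this
      exact mul_inv_eq_iff_eq_mul.mp this.symm |>.symm
  · right
    refine ⟨(t * z) ^ (m + 1), pow_mem (Subgroup.mem_zpowers _) _, ?_⟩
    have h1 : z * ((t * z) ^ (m + 1))⁻¹ = (t * z) ^ (m + 1) * z := by
      have := conj_pow (i := m + 1) (a := z) (b := t * z)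
      rw [hcz, inv_pow] at this
      rw [this, ← mul_assoc, ← mul_assoc, hz2, one_mul, inv_eq_of_mul_eq_one_right hz2]
    rw [mul_assoc, h1, ← mul_assoc, ← pow_add,
      show m + 1 + (m + 1) = orderOf (t * z) + 1 by omega, pow_succ, pow_orderOf_eq_one, one_mul, mul_assoc, hz2,
      mul_one]

section OneClass

variable [Finite G] [Finite Ω] (hone : ∀ s t : G, orderOf s = 2 → orderOf t = 2 → IsConj s t)
include hone

omit [Finite G] [Finite Ω] in
theorem card_fixedBy_eq {v w : G} (hv : orderOf v = 2) (hw : orderOf w = 2) :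
    Nat.card (fixedBy Ω v) = Nat.card (fixedBy Ω w) := by
  obtain ⟨c, rfl⟩ := isConj_iff.mp (hone v w hv hw)
  rw [← smul_fixedBy]
  exact (Set.natCard_smul_set c _).symm

omit [Finite G] in
theorem fixedBy_eq_of_subset {v w : G} (hv : orderOf v = 2) (hw : orderOf w = 2)
    (h : fixedBy Ω v ⊆ fixedBy Ω w) : fixedBy Ω v = fixedBy Ω w :=
  Set.eq_of_subset_of_ncard_le h
    (by rw [← Nat.card_coe_set_eq, ← Nat.card_coe_set_eq, card_fixedBy_eq hone hv hw]) (Set.toFinite _)

/-- An element swapping two points and fixing two fixed-point sets. -/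
theorem fixedBy_eq_of_swap {v w k : G} {a b : Ω} (hv : orderOf v = 2) (hw : orderOf w = 2)
    (hkv : ∀ x ∈ fixedBy Ω v, k • x = x) (hkw : ∀ x ∈ fixedBy Ω w, k • x = x) (hab : b ≠ a)
    (ha : k • a = b) (hb : k • b = a) : fixedBy Ω v = fixedBy Ω w := by
  have he : Even (orderOf k) := by
    by_contra ho
    obtain ⟨m, hm⟩ := Nat.not_even_iff_odd.mp ho
    have h2 : (k ^ 2) ^ m • a = a :=
      (Subgroup.pow_mem (stabilizer G a) (show k ^ 2 ∈ stabilizer G a by
        rw [mem_stabilizer_iff, pow_two, mul_smul, ha, hb]) m)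
    have h1 : k ^ orderOf k • a = a := by rw [pow_orderOf_eq_one, one_smul]
    rw [hm, pow_succ', pow_mul, mul_smul, h2, ha] at h1
    exact hab h1
  obtain ⟨m, hm⟩ := he
  have hpos := orderOf_pos k
  have ho : orderOf (k ^ m) = 2 :=
    orderOf_eq_prime (by rw [← pow_mul, mul_two, ← hm, pow_orderOf_eq_one])
      (pow_ne_one_of_lt_orderOf (by omega) (by omega))
  have h1 : fixedBy Ω v ⊆ fixedBy Ω (k ^ m) := fun x hx =>
    (Subgroup.pow_mem (stabilizer G x) (hkv x hx) m)
  have h2 : fixedBy Ω w ⊆ fixedBy Ω (k ^ m) := fun x hx =>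
    (Subgroup.pow_mem (stabilizer G x) (hkw x hx) m)
  rw [fixedBy_eq_of_subset hone hv ho h1, fixedBy_eq_of_subset hone hw ho h2]

/-- Commuting involutions have the same fixed points. -/
theorem fixedBy_eq_of_commute (hbin : IsBinaryAct G Ω) {v w : G} (hv : orderOf v = 2) (hw : orderOf w = 2)
    (hc : Commute v w) : fixedBy Ω v = fixedBy Ω w := by
  by_cases hvw : v = w
  · rw [hvw]
  obtain ⟨hv2, hv1⟩ := orderOf_eq_prime_iff (p := 2).mp hv
  obtain ⟨hw2, hw1⟩ := orderOf_eq_prime_iff (p := 2).mp hw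
  rw [pow_two] at hv2 hw2
  have hd2 : v * w * (v * w) = 1 := by
    rw [mul_assoc, ← mul_assoc w v w, ← hc.eq, mul_assoc v w w, hw2, mul_one, hv2]
  have hd : orderOf (v * w) = 2 := orderOf_eq_prime (by rw [pow_two, hd2]) fun h =>
    hvw (mul_eq_one_iff_eq_inv.mp h |>.trans (inv_eq_of_mul_eq_one_right hw2))
  have hC : ∀ c ∈ fixedBy Ω (v * w), w • c = v • c := fun c hc' => by
    have h1 : v • w • c = c := by rw [← mul_smul]; exact hc'
    conv_rhs => rw [← h1]
    rw [← mul_smul v v, hv2, one_smul]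
  obtain ⟨k, hkv, hkw, hkc⟩ := glue hbin (A := fixedBy Ω v) (B := fixedBy Ω w)
    (C := fixedBy Ω (v * w)) (g := v) (p := v) (r := w) (fun a ha => ha) (fun c _ => rfl) (fun b hb => hb) hC
  by_cases hall : fixedBy Ω (v * w) ⊆ fixedBy Ω v
  · have e := fixedBy_eq_of_subset hone hd hv hall
    refine fixedBy_eq_of_subset hone hv hw fun x hx => ?_
    have h2 : x ∈ fixedBy Ω (v * w) := e ▸ hx
    exact (hC x h2).trans hx
  · obtain ⟨a, ha, hav⟩ := Set.not_subset.mp hall
    refine fixedBy_eq_of_swap hone hv hw hkv hkw (a := a) (b := v • a) hav (hkc a ha) ?_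
    rw [hkc (v • a) (show (v * w) • v • a = v • a by
      rw [← mul_smul, mul_assoc, ← hc.eq, ← mul_assoc, mul_assoc, mul_smul]
      exact congrArg _ ha)]
    rw [← mul_smul, hv2, one_smul]

/-- Involutions with a product fixing a point, one of them moving it, have the same fixed points. -/
theorem fixedBy_eq_of_mul_fix (hbin : IsBinaryAct G Ω) {v w : G} {a : Ω} (hv : orderOf v = 2)
    (hw : orderOf w = 2) (ha : (v * w) • a = a) (hva : v • a ≠ a) : fixedBy Ω v = fixedBy Ω w := by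
  obtain ⟨hv2, -⟩ := orderOf_eq_prime_iff (p := 2).mp hv
  obtain ⟨hw2, -⟩ := orderOf_eq_prime_iff (p := 2).mp hw
  rw [pow_two] at hv2 hw2
  have hC : ∀ c ∈ fixedBy Ω (v * w), w • c = v • c := fun c hc' => by
    have h1 : v • w • c = c := by rw [← mul_smul]; exact hc'
    conv_rhs => rw [← h1]
    rw [← mul_smul v v, hv2, one_smul]
  obtain ⟨k, hkv, hkw, hkc⟩ := glue hbin (A := fixedBy Ω v) (B := fixedBy Ω w)
    (C := fixedBy Ω (v * w)) (g := v) (p := v) (r := w) (fun a ha => ha) (fun c _ => rfl) (fun b hb => hb) hC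
  refine fixedBy_eq_of_swap hone hv hw hkv hkw (a := a) (b := v • a) hva (hkc a ha) ?_
  rw [hkc (v • a) ?_, ← mul_smul, hv2, one_smul]
  show (v * w) • v • a = v • a
  have h1 : (w * v) • a = a := by
    conv_lhs => rw [← ha]
    rw [← mul_smul, show w * v * (v * w) = w * (v * v) * w by group, hv2, mul_one, hw2, one_smul]
  rw [mul_smul, ← mul_smul w v, h1]

/-- The stabiliser of the fixed points of an involution. -/
def fixStab (Ω : Type*) [MulAction G Ω] (z : G) : Subgroup G := stabilizer G (fixedBy Ω z)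

theorem fixedBy_eq_of_mem (hbin : IsBinaryAct G Ω) {z t : G} (hz : orderOf z = 2) (ht : orderOf t = 2)
    (htM : t ∈ fixStab Ω z) : fixedBy Ω t = fixedBy Ω z := by
  rcases invol_pair ht hz with ⟨c, hc, hct, hcz⟩ | ⟨d, hd, rfl⟩
  · rw [← fixedBy_eq_of_commute hone hbin hc ht hct, fixedBy_eq_of_commute hone hbin hc hz hcz]
  · rw [← smul_fixedBy]
    refine (mem_stabilizer_iff.mp (?_ : d ∈ fixStab Ω z))
    have hzM : z ∈ fixStab Ω z := mem_stabilizer_iff.mpr ((smul_fixedBy _ z z).trans (by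
      rw [mul_inv_cancel_right]))
    exact (Subgroup.zpowers_le.mpr (mul_mem htM hzM)) hd

end OneClass

/-- In a simple group the kernel of a nontrivial transitive action is trivial. -/
theorem eq_one_of_fix_all [IsSimpleGroup G] {H : Subgroup G} (hH : H ≠ ⊤) {g : G}
    (h : ∀ x : G ⧸ H, g • x = x) : g = 1 := by
  have h1 : g ∈ H.normalCore := by
    rw [Subgroup.normalCore_eq_ker, MonoidHom.mem_ker]
    exact Equiv.ext h
  rcases (Subgroup.normalCore_normal H).eq_bot_or_eq_top with e | e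
  · rwa [e, Subgroup.mem_bot] at h1
  · exact absurd (top_le_iff.mp (e ▸ H.normalCore_le)) hH

section SE

variable [Finite G] [IsSimpleGroup G] {H : Subgroup G}

theorem exists_invol_mem (heven : Even (Nat.card H)) : ∃ z : G, orderOf z = 2 ∧ z ∈ H := by
  have : Fact (Nat.Prime 2) := ⟨Nat.prime_two⟩
  obtain ⟨z, hz⟩ := exists_prime_orderOf_dvd_card' (G := H) 2 heven.two_dvd
  exact ⟨z, by rw [Subgroup.orderOf_coe, hz], z.2⟩

theorem smul_one_eq_iff {g : G} : g • ((1 : G) : G ⧸ H) = ((1 : G) : G ⧸ H) ↔ g ∈ H := by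
  rw [MulAction.Quotient.smul_coe, smul_eq_mul, mul_one, QuotientGroup.eq, mul_one, inv_mem_iff]

theorem stabilizer_one : stabilizer G ((1 : G) : G ⧸ H) = H := by
  ext g; exact smul_one_eq_iff

theorem not_commutative (hH : H ≠ ⊤) (heven : Even (Nat.card H)) : ∃ a b : G, a * b ≠ b * a := by
  by_contra! hc
  obtain ⟨z, hz, hzH⟩ := exists_invol_mem heven
  have hn : H.Normal := ⟨fun x hx g => by rw [hc g x, mul_inv_cancel_right]; exact hx⟩
  rcases hn.eq_bot_or_eq_top with e | e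
  · rw [e, Subgroup.mem_bot] at hzH
    rw [hzH, orderOf_one] at hz
    omega
  · exact hH e

theorem isSE_fixStab (hone : ∀ s t : G, orderOf s = 2 → orderOf t = 2 → IsConj s t) (hH : H ≠ ⊤)
    (heven : Even (Nat.card H)) (hbin : IsBinaryAct G (G ⧸ H)) {z : G} (hz : orderOf z = 2) :
    Cfsg.IsStronglyEmbedded (fixStab (G ⧸ H) z) := by
  have : Fact (Nat.Prime 2) := ⟨Nat.prime_two⟩
  have hzM : z ∈ fixStab (G ⧸ H) z := mem_stabilizer_iff.mpr ((smul_fixedBy _ z z).trans (by
    rw [mul_inv_cancel_right]))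
  refine ⟨fun htop => ?_, ?_, fun g hg => ?_⟩
  · obtain ⟨v, hv, hvH⟩ := exists_invol_mem heven
    obtain ⟨c, hc⟩ := isConj_iff.mp (hone v z hv hz)
    have hne : (c : G ⧸ H) ∈ fixedBy (G ⧸ H) z := by
      rw [← hc]
      show (c * v * c⁻¹) • (c : G ⧸ H) = c
      rw [MulAction.Quotient.smul_coe, smul_eq_mul, inv_mul_cancel_right, QuotientGroup.eq]
      simpa [mul_assoc] using hvH
    have huniv : ∀ x : G ⧸ H, x ∈ fixedBy (G ⧸ H) z := fun x => by
      obtain ⟨g, rfl⟩ := exists_smul_eq G (c : G ⧸ H) x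
      have h1 : g • fixedBy (G ⧸ H) z = fixedBy (G ⧸ H) z :=
        mem_stabilizer_iff.mp (show g ∈ fixStab (G ⧸ H) z by rw [htop]; exact Subgroup.mem_top g)
      rw [← h1]
      exact Set.smul_mem_smul_set hne
    rw [eq_one_of_fix_all hH huniv, orderOf_one] at hz
    omega
  · rw [even_iff_two_dvd]
    have := orderOf_dvd_natCard (⟨z, hzM⟩ : fixStab (G ⧸ H) z)
    rwa [Subgroup.orderOf_mk, hz] at this
  · rw [← Nat.not_even_iff_odd]
    intro hev
    obtain ⟨t, ht, htM, htg⟩ : ∃ t : G, orderOf t = 2 ∧ t ∈ fixStab (G ⧸ H) z ∧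
        g⁻¹ * t * g ∈ fixStab (G ⧸ H) z := by
      obtain ⟨t, ht⟩ := exists_prime_orderOf_dvd_card' 2 hev.two_dvd
      obtain ⟨s, hs, hst⟩ := Subgroup.mem_inf.mp t.2 |>.2
      refine ⟨t, by rw [Subgroup.orderOf_coe, ht], (Subgroup.mem_inf.mp t.2).1, ?_⟩
      have : g⁻¹ * (t : G) * g = s := by
        rw [← hst]; show g⁻¹ * (g * s * g⁻¹) * g = s; group
      rw [this]; exact hs
    have e1 := fixedBy_eq_of_mem hone hbin hz ht htM
    have ht' : orderOf (g⁻¹ * t * g) = 2 := by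
      simpa [ht] using (MulAut.conj g⁻¹).orderOf_eq t
    have e2 := fixedBy_eq_of_mem hone hbin hz ht' htg
    refine hg (mem_stabilizer_iff.mpr ?_)
    calc g • fixedBy (G ⧸ H) z = g • fixedBy (G ⧸ H) (g⁻¹ * t * g) := by rw [e2]
      _ = fixedBy (G ⧸ H) t := by rw [smul_fixedBy]; congr 1; group
      _ = _ := e1

/-- If a product of two distinct involutions fixes a point, each of them fixes it. -/
theorem smul_eq_of_mul_fix (hone : ∀ s t : G, orderOf s = 2 → orderOf t = 2 → IsConj s t)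
    (hsyl : ∀ z : G, orderOf z = 2 → ∃ S : Sylow 2 G,
      fixStab (G ⧸ H) z = Subgroup.normalizer ((S : Subgroup G) : Set G))
    (hbin : IsBinaryAct G (G ⧸ H)) {v w : G} {a : G ⧸ H} (hv : orderOf v = 2) (hw : orderOf w = 2)
    (hne : v ≠ w) (ha : (v * w) • a = a) : v • a = a := by
  have : Fact (Nat.Prime 2) := ⟨Nat.prime_two⟩
  by_contra hva
  have e := fixedBy_eq_of_mul_fix hone hbin hv hw ha hva
  obtain ⟨S, hS⟩ := hsyl v hv
  have hmem : ∀ t : G, orderOf t = 2 → fixedBy (G ⧸ H) t = fixedBy (G ⧸ H) v → t ∈ (S : Subgroup G) := by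
    intro t ht hte
    have htM : t ∈ Subgroup.normalizer ((S : Subgroup G) : Set G) := by
      rw [← hS]
      refine mem_stabilizer_iff.mpr ?_
      rw [← hte, smul_fixedBy]
      congr 1
      group
    have hp : IsPGroup 2 (Subgroup.zpowers t) :=
      IsPGroup.of_card (n := 1) (by rw [Nat.card_zpowers, ht, pow_one])
    have hle : Subgroup.zpowers t ≤ Subgroup.normalizer ((S : Subgroup G) : Set G) := Subgroup.zpowers_le.mpr htM
    have h := IsPGroup.to_sup_of_normal_right' hp S.isPGroup' hle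
    have := S.is_maximal' (Q := Subgroup.zpowers t ⊔ S) h le_sup_right
    exact this ▸ (le_sup_left : Subgroup.zpowers t ≤ Subgroup.zpowers t ⊔ S) (Subgroup.mem_zpowers t)
  have hx : v * w ∈ (S : Subgroup G) := mul_mem (hmem v hv rfl) (hmem w hw e.symm)
  obtain ⟨n, hn⟩ := S.isPGroup' ⟨_, hx⟩
  have hn' : (v * w) ^ 2 ^ n = 1 := by simpa using congrArg Subtype.val hn
  obtain ⟨j, -, hj⟩ := (Nat.dvd_prime_pow Nat.prime_two).mp (orderOf_dvd_of_pow_eq_one hn')
  rcases Nat.eq_zero_or_pos j with rfl | hjpos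
  · rw [pow_zero, orderOf_eq_one_iff, mul_eq_one_iff_eq_inv] at hj
    refine hne (hj.trans ?_)
    obtain ⟨hw2, -⟩ := orderOf_eq_prime_iff (p := 2).mp hw
    exact inv_eq_of_mul_eq_one_right (by rw [← pow_two]; exact hw2)
  · obtain ⟨i, rfl⟩ : ∃ i, j = i + 1 := ⟨j - 1, by omega⟩
    have hi : orderOf ((v * w) ^ 2 ^ i) = 2 := by
      rw [orderOf_pow' _ (by positivity), hj, Nat.gcd_eq_right (pow_dvd_pow 2 (by omega)), pow_succ,
        Nat.mul_div_cancel_left _ (by positivity)]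
    have hsub : fixedBy (G ⧸ H) v ⊆ fixedBy (G ⧸ H) ((v * w) ^ 2 ^ i) := fun x hx' => by
      refine Subgroup.pow_mem (stabilizer G x) ?_ _
      show (v * w) • x = x
      rw [mul_smul, show w • x = x from (e ▸ hx' : x ∈ fixedBy (G ⧸ H) w)]
      exact hx'
    have heq := fixedBy_eq_of_subset hone hv hi hsub
    exact hva (heq ▸ (Subgroup.pow_mem (stabilizer G a) ha _) : a ∈ fixedBy (G ⧸ H) v)

end SE

/-- A subgroup of exponent two containing every involution commuting with one of its involutions gives a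
binary action. -/
theorem binary_of_closed {H : Subgroup G} (hexp : ∀ x ∈ H, x * x = 1)
    (hcl : ∀ x ∈ H, x ≠ 1 → ∀ y : G, y ≠ 1 → y * y = 1 → x * y = y * x → y ∈ H) :
    IsBinaryAct G (G ⧸ H) := by
  have hst : ∀ (c z : G), z • (c : G ⧸ H) = c ↔ c⁻¹ * z * c ∈ H := fun c z => by
    rw [MulAction.Quotient.smul_coe, smul_eq_mul, eq_comm, QuotientGroup.eq, ← mul_assoc]
  have hsq : ∀ (p : G ⧸ H) (z : G), z • p = p → z * z = 1 := fun p z hz => by
    induction p using QuotientGroup.induction_on with | H c => ?_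
    have := hexp _ ((hst c z).mp hz)
    calc z * z = c * (c⁻¹ * z * c * (c⁻¹ * z * c)) * c⁻¹ := by group
      _ = 1 := by rw [this]; group
  have hinv : ∀ (p : G ⧸ H) (x y : G), x • p = p → x ≠ 1 → y ≠ 1 → y * y = 1 → x * y = y * x → y • p = p := by
    intro p x y hx hx1 hy1 hy2 hc
    induction p using QuotientGroup.induction_on with | H c => ?_
    rw [hst] at hx ⊢
    refine hcl _ hx ?_ _ ?_ ?_ ?_
    · intro h; exact hx1 (by calc x = c * (c⁻¹ * x * c) * c⁻¹ := by group
                                 _ = 1 := by rw [h]; group)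
    · intro h; exact hy1 (by calc y = c * (c⁻¹ * y * c) * c⁻¹ := by group
                                 _ = 1 := by rw [h]; group)
    · calc c⁻¹ * y * c * (c⁻¹ * y * c) = c⁻¹ * (y * y) * c := by group
        _ = 1 := by rw [hy2]; group
    · calc c⁻¹ * x * c * (c⁻¹ * y * c) = c⁻¹ * (x * y) * c := by group
        _ = _ := by rw [hc]; group
  have hcomm : ∀ (x y : G), x * x = 1 → y * y = 1 → x * y * (x * y) = 1 → x * y = y * x := fun x y hx hy h => by
    calc x * y = (x * y)⁻¹ := eq_inv_of_mul_eq_one_left h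
      _ = y⁻¹ * x⁻¹ := mul_inv_rev x y
      _ = _ := by rw [inv_eq_of_mul_eq_one_right hx, inv_eq_of_mul_eq_one_right hy]
  have habel : ∀ (p : G ⧸ H) (x y : G), x • p = p → y • p = p → x * y = y * x := fun p x y hx hy =>
    hcomm x y (hsq p x hx) (hsq p y hy) (hsq p _ (by rw [mul_smul, hy, hx]))
  refine binary_of_ti ?_ fun p q r d k hd hk hdp hkq hdkr => hcomm d k (hsq p d hdp) (hsq q k hkq) (hsq r _ hdkr)
  intro p q x y hx1 hy1 hxp hyq hc
  have hyp : y • p = p := hinv p x y hxp hx1 hy1 (hsq q y hyq) hc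
  ext z
  simp only [mem_stabilizer_iff]
  constructor
  · intro hz
    rcases eq_or_ne z 1 with rfl | hz1
    · exact one_smul _ _
    · exact hinv q y z hyq hy1 hz1 (hsq p z hz) (habel p y z hyp hz)
  · intro hz
    rcases eq_or_ne z 1 with rfl | hz1
    · exact one_smul _ _
    · exact hinv p y z hyp hy1 hz1 (hsq q z hz) (habel q y z hyq hz)

end Cfsg.Agent.H79.OneClassBinary
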