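import Cfsg.Agent.H79.OneClassBinary.PSU
import Cfsg.Agent.Bridge.Bender
import Cfsg.Agent.S5736
import Cfsg.Agent.S5737

/-!
Binary coset actions of simple groups with one class of involutions and point stabilisers of even order.
-/

set_option autoImplicit false
set_option linter.unusedSectionVars false
set_option linter.style.haveILetI false

namespace Cfsg.Agent.H79.OneClassBinary

open Cfsg MulAction Cfsg.Agent.H33.Binary Cfsg.Agent.H76.PostBender

theorem hsyl_of {L : Type*} [Group L] [Finite L] [IsSimpleGroup L] {H : Subgroup L} (hH : H ≠ ⊤)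
    (heven : Even (Nat.card H)) (hone : ∀ s t : L, orderOf s = 2 → orderOf t = 2 → IsConj s t)
    (hbin : IsBinaryAct L (L ⧸ H)) (z : L) (hz : orderOf z = 2) :
    ∃ S : Sylow 2 L, fixStab (L ⧸ H) z = Subgroup.normalizer ((S : Subgroup L) : Set L) := by
  have hse := isSE_fixStab hone hH heven hbin hz
  exact eq_normalizer (Bridge.bender L (not_commutative hH heven) _ hse) hse

theorem even_map {G L : Type*} [Group G] [Group L] (e : G ≃* L) (H : Subgroup G) (h : Even (Nat.card H)) :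
    Even (Nat.card (H.map e.toMonoidHom)) := by
  rwa [Subgroup.card_map_of_injective e.injective]

theorem map_ne_top {G L : Type*} [Group G] [Group L] (e : G ≃* L) {H : Subgroup G} (h : H ≠ ⊤) :
    H.map e.toMonoidHom ≠ ⊤ := fun h' => h (Subgroup.map_injective e.injective (by
  rw [h', Subgroup.map_top_of_surjective _ e.surjective]))

theorem ne_bot_of_even {L : Type*} [Group L] {H : Subgroup L} (h : Even (Nat.card H)) : H ≠ ⊥ := fun e => by
  rw [e, Subgroup.card_bot] at h
  exact Nat.not_even_one h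

theorem map_map_symm {G L : Type*} [Group G] [Group L] (e : G ≃* L) (H : Subgroup G) :
    (H.map e.toMonoidHom).map e.symm.toMonoidHom = H := by
  rw [Subgroup.map_map, show e.symm.toMonoidHom.comp e.toMonoidHom = MonoidHom.id G from
    MonoidHom.ext e.symm_apply_apply, Subgroup.map_id]

theorem sl_equiv_psl {F : Type} [Field F] [CharP F 2] :
    Nonempty (Matrix.SpecialLinearGroup (Fin 2) F ≃* Matrix.ProjectiveSpecialLinearGroup (Fin 2) F) := by
  have hc : Subgroup.center (Matrix.SpecialLinearGroup (Fin 2) F) = ⊥ := by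
    rw [eq_bot_iff]
    intro a ha
    rcases Linear.mem_center_SL_two.mp ha with rfl | rfl
    · exact one_mem _
    · rw [Subgroup.mem_bot]
      refine Subtype.ext ?_
      ext i j
      fin_cases i <;> fin_cases j <;> simp [CharTwo.neg_eq]
  exact ⟨MulEquiv.ofBijective (QuotientGroup.mk' _)
    ⟨by rw [← MonoidHom.ker_eq_bot_iff, QuotientGroup.ker_mk', hc], QuotientGroup.mk'_surjective _⟩⟩

theorem charTwo_of_card {F : Type} [Field F] [Fintype F] {a : ℕ} (_ha : 2 ≤ a)
    (hF : Fintype.card F = 2 ^ a) : CharP F 2 := by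
  have h : ((2 : F)) = 0 := by
    have h := Nat.cast_card_eq_zero F
    rw [hF, Nat.cast_pow] at h
    exact_mod_cast eq_zero_of_pow_eq_zero h
  exact CharTwo.of_one_ne_zero_of_two_eq_zero one_ne_zero h

theorem exists_sylow_map {G L : Type*} [Group G] [Finite G] [Group L] (e : G ≃* L) (P : Sylow 2 G) :
    ∃ Q : Sylow 2 L, (Q : Subgroup L) = (P : Subgroup G).map e.toMonoidHom := by
  haveI : Fact (Nat.Prime 2) := ⟨Nat.prime_two⟩
  exact ⟨P.mapSurjective (f := e.toMonoidHom) (show Function.Surjective e.toMonoidHom from e.surjective), rfl⟩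

theorem exists_sylow_back {G L : Type*} [Group G] [Group L] [Finite L] (e : G ≃* L) (Q : Sylow 2 L) :
    ∃ P : Sylow 2 G, (P : Subgroup G).map e.toMonoidHom = Q := by
  obtain ⟨P, hP⟩ := exists_sylow_map e.symm Q
  exact ⟨P, by rw [hP]; exact map_map_symm e.symm Q⟩

theorem center_sub_eq {G L : Type*} [Group G] [Group L] (e : G ≃* L) {P : Subgroup G} {H : Subgroup G}
    (h : H.map e.toMonoidHom =
      (Subgroup.center (P.map e.toMonoidHom : Subgroup L)).map (P.map e.toMonoidHom).subtype) :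
    H = (Subgroup.center P).map P.subtype :=
  Subgroup.map_injective e.injective (h.trans (center_sub_map e P).symm)

universe u

variable {G : Type u} [Group G] [Finite G] [IsSimpleGroup G] {H : Subgroup G}

theorem forward (hone : ∀ s t : G, orderOf s = 2 → orderOf t = 2 → IsConj s t) (hH : H ≠ ⊤)
    (heven : Even (Nat.card H)) (hbin : IsBinaryAct G (G ⧸ H)) :
      (((∃ (F : Type) (_ : Field F) (_ : Fintype F) (a : ℕ), 2 ≤ a ∧ Fintype.card F = 2 ^ a ∧ Nonempty (G ≃* Matrix.SpecialLinearGroup (Fin 2) F)) ∧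
          ∃ P : Sylow 2 G, H = P) ∨
        (Cfsg.Lie.IsoSuzuki G ∧ ∃ P : Sylow 2 G, H = (Subgroup.center (P : Subgroup G)).map (P : Subgroup G).subtype) ∨
        ((∃ (F : Type) (_ : Field F) (_ : Fintype F) (a : ℕ), 2 ≤ a ∧ Fintype.card F = (2 ^ a) ^ 2 ∧ Nonempty (G ≃* Cfsg.PSU 3 F (2 ^ a))) ∧
          ∃ P : Sylow 2 G, H = (Subgroup.center (P : Subgroup G)).map (P : Subgroup G).subtype)) := by
  haveI : Fact (Nat.Prime 2) := ⟨Nat.prime_two⟩
  obtain ⟨z, hz, -⟩ := exists_invol_mem heven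
  have hB : IsBenderGroup G :=
    Bridge.bender G (not_commutative hH heven) _ (isSE_fixStab hone hH heven hbin hz)
  rcases hB with ⟨F, iF, iFt, hc, h4, ⟨e⟩⟩ | hSz | ⟨F, iF, iFt, q, hF, hqe, hq4, ⟨e⟩⟩
  · haveI := hc
    obtain ⟨n, hn2, hn⟩ := FiniteField.card F 2
    have hn' : 2 ≤ (n : ℕ) := by
      by_contra h
      have : (n : ℕ) = 1 := by have := n.pos; omega
      rw [hn, this] at h4
      norm_num at h4
    have h5 : Fintype.card F ≠ 5 := by
      rw [hn]
      intro h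
      have := dvd_pow_self 2 n.ne_zero
      rw [h] at this
      norm_num at this
    rcases (S5736.result h4 h5 _ (map_ne_top e hH)).mp ((isBinaryAct_map e H).mp hbin) with
      h | ⟨-, P, hP⟩ | ⟨-, h3⟩
    · exact absurd h (ne_bot_of_even (even_map e H heven))
    · obtain ⟨e'⟩ := nonempty_equiv_sl_two e
      obtain ⟨Q, hQ⟩ := exists_sylow_back e P
      exact Or.inl ⟨⟨F, iF, iFt, n, hn', hn, ⟨e'⟩⟩, Q, Subgroup.map_injective e.injective (hP.trans hQ.symm)⟩
    · have := even_map e H heven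
      rw [h3] at this
      exact absurd this (by decide)
  · refine Or.inr (Or.inl ⟨hSz, ?_⟩)
    obtain ⟨F, _, _, m, hm, hF, ⟨e⟩⟩ := hSz
    rcases (S5737.result m hm hF _ (map_ne_top e hH)).mp ((isBinaryAct_map e H).mp hbin) with h | ⟨P, hP⟩
    · exact absurd h (ne_bot_of_even (even_map e H heven))
    · obtain ⟨Q, hQ⟩ := exists_sylow_back e P
      exact ⟨Q, center_sub_eq e (by rw [hQ]; exact hP)⟩
  · haveI := charP_two_of_card hF hqe
    obtain ⟨p, k, hp, -, hc, hk⟩ := Unitary.exists_char_pow hF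
    obtain rfl := CharP.eq F hc ‹CharP F 2›
    subst hk
    have hk2 : 2 ≤ k := by
      by_contra h
      interval_cases k <;> norm_num at hq4
    haveI : Finite (PSU 3 F (2 ^ k)) := Finite.of_equiv G e.toEquiv
    haveI : IsSimpleGroup (PSU 3 F (2 ^ k)) :=
      Unitary.isSimpleGroup_PSU hF le_rfl (by omega)
    have hone' : ∀ s t : PSU 3 F (2 ^ k), orderOf s = 2 → orderOf t = 2 → IsConj s t := fun s t hs ht => by
      have := e.toMonoidHom.map_isConj
        (hone (e.symm s) (e.symm t) (by rw [MulEquiv.orderOf_eq, hs]) (by rw [MulEquiv.orderOf_eq, ht]))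
      simpa using this
    have hbin' := (isBinaryAct_map e H).mp hbin
    have hH' := map_ne_top e hH
    have heven' := even_map e H heven
    obtain ⟨P, hP⟩ := psu_forward hF hq4 hone' hH' heven' (hsyl_of hH' heven' hone' hbin') hbin'
    obtain ⟨Q, hQ⟩ := exists_sylow_back e P
    exact Or.inr (Or.inr ⟨⟨F, iF, iFt, k, hk2, hF, ⟨e⟩⟩, Q, center_sub_eq e (by rw [hQ]; exact hP)⟩)

theorem backward (hH : H ≠ ⊤)
    (h : (((∃ (F : Type) (_ : Field F) (_ : Fintype F) (a : ℕ), 2 ≤ a ∧ Fintype.card F = 2 ^ a ∧ Nonempty (G ≃* Matrix.SpecialLinearGroup (Fin 2) F)) ∧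
          ∃ P : Sylow 2 G, H = P) ∨
        (Cfsg.Lie.IsoSuzuki G ∧ ∃ P : Sylow 2 G, H = (Subgroup.center (P : Subgroup G)).map (P : Subgroup G).subtype) ∨
        ((∃ (F : Type) (_ : Field F) (_ : Fintype F) (a : ℕ), 2 ≤ a ∧ Fintype.card F = (2 ^ a) ^ 2 ∧ Nonempty (G ≃* Cfsg.PSU 3 F (2 ^ a))) ∧
          ∃ P : Sylow 2 G, H = (Subgroup.center (P : Subgroup G)).map (P : Subgroup G).subtype))) :
    IsBinaryAct G (G ⧸ H) := by
  haveI : Fact (Nat.Prime 2) := ⟨Nat.prime_two⟩
  rcases h with ⟨⟨F, _, _, a, ha, hF, ⟨e₀⟩⟩, P, hP⟩ | ⟨hSz, P, hP⟩ | ⟨⟨F, _, _, a, ha, hF, ⟨e⟩⟩, P, hP⟩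
  · haveI := charTwo_of_card ha hF
    obtain ⟨e₁⟩ := sl_equiv_psl (F := F)
    let e := e₀.trans e₁
    have h4 : 4 ≤ Fintype.card F := hF ▸ (Nat.pow_le_pow_right two_pos ha : 2 ^ 2 ≤ 2 ^ a)
    have h5 : Fintype.card F ≠ 5 := by
      rw [hF]
      intro h
      have := dvd_pow_self 2 (show a ≠ 0 by omega)
      rw [h] at this
      norm_num at this
    obtain ⟨Q, hQ⟩ := exists_sylow_map e P
    exact (isBinaryAct_map e H).mpr ((S5736.result h4 h5 _ (map_ne_top e hH)).mpr
      (Or.inr (Or.inl ⟨⟨a, hF⟩, Q, by rw [hQ, hP]⟩)))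
  · obtain ⟨F, _, _, m, hm, hF, ⟨e⟩⟩ := hSz
    obtain ⟨Q, hQ⟩ := exists_sylow_map e P
    exact (isBinaryAct_map e H).mpr ((S5737.result m hm hF _ (map_ne_top e hH)).mpr
      (Or.inr ⟨Q, by rw [hQ, ← center_sub_map e, ← hP]⟩))
  · haveI := charP_two_of_card hF ⟨2 ^ (a - 1), by rw [← two_mul, ← pow_succ']; congr 1; omega⟩
    haveI : Finite (PSU 3 F (2 ^ a)) := Finite.of_equiv G e.toEquiv
    haveI : IsSimpleGroup (PSU 3 F (2 ^ a)) :=
      Unitary.isSimpleGroup_PSU hF le_rfl (by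
        have : 4 ≤ 2 ^ a := (Nat.pow_le_pow_right two_pos ha : 2 ^ 2 ≤ 2 ^ a)
        omega)
    obtain ⟨Q, hQ⟩ := exists_sylow_map e P
    rw [isBinaryAct_map e H, hP, center_sub_map e, ← hQ]
    exact psu_backward hF _

end Cfsg.Agent.H79.OneClassBinary
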