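import Cfsg.Agent.H52.SUThree
import Cfsg.Agent.H79.OneClassBinary.Basic
import Cfsg.Agent.Unitary.GUCenter

/-!
`SU₃(q)` on vectors of norm one: no binary action with a point stabiliser between the fixer and the
stabiliser of such a vector.
-/

set_option autoImplicit false
set_option linter.unusedSectionVars false

namespace Cfsg.Agent.H79.OneClassBinary

open Cfsg MulAction Cfsg.Agent.Unitary Cfsg.Agent.H33.Binary
open Matrix hiding vec

variable {F : Type*} [Field F] [Fintype F] {q : ℕ}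

local notation "X" => SU 3 F q
local notation "H3" => hermForm 3 F q

/-- The form in coordinates. -/
theorem herm_coord (x y : Fin 3 → F) : H3 x y = x 0 * y 0 ^ q + x 1 * y 1 ^ q + x 2 * y 2 ^ q :=
  Fin.sum_univ_three _

theorem cj_cross (hF : Fintype.card F = q ^ 2) (v w : Fin 3 → F) :
    cj q (crossProduct v w) = crossProduct (cj q v) (cj q w) := by
  ext i
  fin_cases i <;> simp [cj_apply, cross_apply, sub_pow_q hF, mul_pow]

/-- An element with two prescribed orthonormal columns. -/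
theorem exists_cols (hF : Fintype.card F = q ^ 2) {v w : Fin 3 → F} (hv : H3 v v = 1) (hw : H3 w w = 1)
    (hvw : H3 v w = 0) : ∃ g : X, ap g ![0, 1, 0] = v ∧ ap g ![0, 0, 1] = w := by
  have hwv : H3 w v = 0 := (herm_eq_zero_symm hF).1 hvw
  set n := cj q (crossProduct v w) with hn
  have hnx : ∀ x, H3 x n = x ⬝ᵥ crossProduct v w := fun x => by rw [herm_eq_dot, hn, cj_cj hF]
  have hnv : H3 v n = 0 := by rw [hnx, dot_self_cross]
  have hnw : H3 w n = 0 := by rw [hnx, dot_cross_self]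
  have hvn : H3 n v = 0 := (herm_eq_zero_symm hF).1 hnv
  have hwn : H3 n w = 0 := (herm_eq_zero_symm hF).1 hnw
  have hnn : H3 n n = 1 := by
    rw [hnx, hn, cj_cross hF, cross_dot_cross, dotProduct_comm (cj q v), dotProduct_comm (cj q w),
      dotProduct_comm (cj q v), dotProduct_comm (cj q w), ← herm_eq_dot, ← herm_eq_dot, ← herm_eq_dot,
      ← herm_eq_dot, hv, hw, hvw, hwv]
    ring
  set M : Matrix (Fin 3) (Fin 3) F := (Matrix.of ![n, v, w])ᵀ with hM
  have hMx : ∀ x, M *ᵥ x = x 0 • n + x 1 • v + x 2 • w := fun x => by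
    ext i
    simp [hM, Matrix.mulVec, dotProduct, Fin.sum_univ_three]
    ring
  have hp : Preserves q M := fun x y => by
    rw [hMx, hMx, herm_coord x y]
    simp only [herm_add_left, herm_add_right hF, herm_smul_left, herm_smul_right, hv, hw, hnn, hvw, hwv,
      hnv, hnw, hvn, hwn]
    ring
  have hd : M.det = 1 := by
    rw [hM, det_transpose]
    refine Eq.trans ?_ ((hnx n).symm.trans hnn)
    exact (triple_product_eq_det n v w).symm
  refine ⟨toSU hp hd, ?_, ?_⟩
  · show M *ᵥ _ = _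
    rw [hMx]; simp
  · show M *ᵥ _ = _
    rw [hMx]; simp

/-- `SU₃` is transitive on orthonormal pairs. -/
theorem exists_map_pair (hF : Fintype.card F = q ^ 2) {v w v' w' : Fin 3 → F} (hv : H3 v v = 1)
    (hw : H3 w w = 1) (hvw : H3 v w = 0) (hv' : H3 v' v' = 1) (hw' : H3 w' w' = 1) (hvw' : H3 v' w' = 0) :
    ∃ g : X, ap g v = v' ∧ ap g w = w' := by
  obtain ⟨g, hg1, hg2⟩ := exists_cols hF hv hw hvw
  obtain ⟨h, hh1, hh2⟩ := exists_cols hF hv' hw' hvw'
  refine ⟨h * g⁻¹, ?_, ?_⟩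
  · rw [ap_mul, ← hg1, ap_inv_ap, hh1]
  · rw [ap_mul, ← hg2, ap_inv_ap, hh2]

theorem exists_norm_one_perp (hF : Fintype.card F = q ^ 2) {p : Fin 3 → F} (hp : H3 p p = 1) :
    ∃ r : Fin 3 → F, H3 r r = 1 ∧ H3 p r = 0 := by
  obtain ⟨g, hg, hs⟩ := (show ON q ![p] from fun i j => by
    fin_cases i; fin_cases j; simpa using hp).exists_extend hF
  have hlt : 0 < 3 - Fintype.card (Fin 1) := by simp
  exact ⟨g ⟨0, hlt⟩, by simpa using hg (Sum.inr ⟨0, hlt⟩) (Sum.inr ⟨0, hlt⟩),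
    by simpa using hg (Sum.inl 0) (Sum.inr ⟨0, hlt⟩)⟩

theorem exists_map_one (hF : Fintype.card F = q ^ 2) {p p' : Fin 3 → F} (hp : H3 p p = 1) (hp' : H3 p' p' = 1) :
    ∃ g : X, ap g p = p' := by
  obtain ⟨r, hr, hpr⟩ := exists_norm_one_perp hF hp
  obtain ⟨r', hr', hpr'⟩ := exists_norm_one_perp hF hp'
  obtain ⟨g, hg, -⟩ := exists_map_pair hF hp hr hpr hp' hr' hpr'
  exact ⟨g, hg⟩

theorem exists_fixed_ne (hF : Fintype.card F = q ^ 2) (hq : 4 ≤ q) :
    ∃ t : F, t ^ q = t ∧ t ≠ 0 ∧ t ≠ 1 := by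
  classical
  by_contra h
  push Not at h
  have hsub : ∀ t : fixK hF, (t : F) = 0 ∨ (t : F) = 1 := fun t => by
    rcases eq_or_ne (t : F) 0 with e | e
    · exact Or.inl e
    · exact Or.inr (h _ t.2 e)
  have hle : Nat.card (fixK hF) ≤ Nat.card Bool := by
    refine Nat.card_le_card_of_injective (fun t : fixK hF => decide ((t : F) = 0)) fun s t e => ?_
    rcases hsub s with hs | hs <;> rcases hsub t with ht | ht <;> simp [hs, ht] at e <;>
      exact Subtype.ext (hs.trans ht.symm)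
  rw [card_fixK hF, Nat.card_eq_fintype_card, Fintype.card_bool] at hle
  omega

variable [CharP F 2] {Ω : Type*} [MulAction (SU 3 F q) Ω] [IsPretransitive (SU 3 F q) Ω] [Finite Ω]

/-- No binary action with the stabiliser between the fixer and the stabiliser of a norm-one vector. -/
theorem line_absurd (hF : Fintype.card F = q ^ 2) (hq : 4 ≤ q) (hbin : IsBinaryAct X Ω) {a : Ω}
    {p₀ : Fin 3 → F} (hp₀ : H3 p₀ p₀ = 1) (h1 : ∀ g : X, ap g p₀ = p₀ → g • a = a)
    (h2 : ∀ g : X, g • a = a → ∃ c : F, ap g p₀ = c • p₀) : False := by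
  have hq0 := q_ne_zero hF
  let μ : F → Prop := fun c => ∃ g : X, g • a = a ∧ ap g p₀ = c • p₀
  have hμ : ∀ c, μ c → c * c ^ q = 1 := by
    rintro c ⟨g, -, hg⟩
    have := herm_ap g p₀ p₀
    rwa [hg, herm_smul_left, herm_smul_right, hp₀, mul_one] at this
  -- the point of a vector
  choose mv hmv using fun (p : Fin 3 → F) (hp : H3 p p = 1) => exists_map_one hF hp₀ hp
  let φ : ∀ p : Fin 3 → F, H3 p p = 1 → Ω := fun p hp => mv p hp • a
  have hφ : ∀ (g : X) p hp p' (hp' : H3 p' p' = 1), ap g p = p' → g • φ p hp = φ p' hp' := by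
    intro g p hp p' hp' hg
    have : ((mv p' hp')⁻¹ * (g * mv p hp)) • a = a :=
      h1 _ (by
        rw [ap_mul, ap_mul, hmv, hg]
        exact (congrArg (ap (mv p' hp')⁻¹) (hmv p' hp').symm).trans (by rw [ap_inv_ap]))
    rwa [mul_smul, inv_smul_eq_iff, mul_smul] at this
  have hφinj : ∀ p hp p' hp', φ p hp = φ p' hp' → ∃ c, μ c ∧ p' = c • p := by
    intro p hp p' hp' e
    have hfix : ((mv p hp)⁻¹ * mv p' hp') • a = a := by
      rw [mul_smul, inv_smul_eq_iff]; exact e.symm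
    obtain ⟨c, hc⟩ := h2 _ hfix
    refine ⟨c, ⟨_, hfix, hc⟩, ?_⟩
    calc p' = ap (mv p' hp') p₀ := (hmv p' hp').symm
      _ = ap (mv p hp) (ap ((mv p hp)⁻¹ * mv p' hp') p₀) := by rw [← ap_mul, mul_inv_cancel_left]
      _ = _ := by rw [hc, ap_smul, hmv]
  have hφμ : ∀ p hp c (hc : μ c) (hp' : H3 (c • p) (c • p) = 1), φ (c • p) hp' = φ p hp := by
    rintro p hp c ⟨k, hk, hkp⟩ hp'
    have h := h1 ((mv (c • p) hp')⁻¹ * (mv p hp * k)) (by
      rw [ap_mul, ap_mul, hkp, ap_smul, hmv]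
      exact (congrArg (ap (mv (c • p) hp')⁻¹) (hmv (c • p) hp').symm).trans (by rw [ap_inv_ap]))
    rw [mul_smul, inv_smul_eq_iff, mul_smul, hk] at h
    exact h.symm
  -- constants
  have h2' : ∀ x : F, x + x = 0 := fun x => CharTwo.add_self_eq_zero x
  obtain ⟨t, htq, ht0, ht1⟩ := exists_fixed_ne hF hq
  obtain ⟨α, hα⟩ := exists_norm_eq hF htq
  obtain ⟨γ, hγ⟩ := exists_norm_eq hF (show (1 - t) ^ q = 1 - t by rw [sub_pow_q hF, one_pow, htq])
  have hα0 : α ≠ 0 := fun h => ht0 (by rw [← hα, h, zero_mul])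
  have hγ0 : γ ≠ 0 := fun h => ht1 (by rw [h, zero_mul] at hγ; exact (sub_eq_zero.1 hγ.symm).symm)
  have hγq : γ ^ q ≠ 0 := pow_ne_zero _ hγ0
  have ht2 : 1 - t * t ≠ 0 := fun h => ht1 (by
    have e : (t - 1) * (t - 1) = 0 := by linear_combination -h + (1 - t) * h2' 1
    exact sub_eq_zero.1 (mul_self_eq_zero.1 e))
  obtain ⟨κ, hκ⟩ := exists_norm_eq hF (show (1 - t * t) ^ q = 1 - t * t by
    rw [sub_pow_q hF, one_pow, mul_pow, htq])
  have hκ0 : κ ≠ 0 := fun h => ht2 (by rw [← hκ, h, zero_mul])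
  -- the moved vector
  obtain ⟨ε, y, z, hε, hy, hyz, hcase⟩ : ∃ ε y z : F, μ ε ∧ α * α ^ q + y * γ ^ q = ε * t ∧
      y * y ^ q + z * z ^ q = 1 - t ∧ (y ≠ 0 ∨ ((∀ c, μ c → c = 1) ∧ z ≠ γ)) := by
    have h1μ : μ 1 := ⟨1, one_smul _ _, by rw [ap_one, one_smul]⟩
    by_cases hall : ∀ c, μ c → c = 1
    · obtain ⟨δ, hδ, hδ1⟩ := exists_norm_one_ne_one (F := F) hF
      refine ⟨1, 0, δ * γ, h1μ, by rw [hα]; ring, ?_, Or.inr ⟨hall, fun e => hδ1 ?_⟩⟩
      · rw [mul_pow, zero_mul]; linear_combination (δ * δ ^ q) * hγ + (1 - t) * hδ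
      · exact (mul_eq_right₀ hγ0).1 e
    · push Not at hall
      obtain ⟨ε, hε, hε1⟩ := hall
      obtain ⟨y, hyd⟩ : ∃ y, y = (ε - 1) * t / γ ^ q := ⟨_, rfl⟩
      obtain ⟨z, hz⟩ := exists_norm_eq hF (show (1 - t - y * y ^ q) ^ q = 1 - t - y * y ^ q by
        rw [sub_pow_q hF, sub_pow_q hF, one_pow, htq, norm_pow_q hF])
      refine ⟨ε, y, z, hε, by rw [hyd, hα]; field_simp; ring, by rw [hz]; ring, Or.inl ?_⟩
      rw [hyd]
      exact div_ne_zero (mul_ne_zero (sub_ne_zero.2 hε1) ht0) hγq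
  have hεn := hμ ε hε
  have hz0 : (0 : F) ^ q = 0 := zero_pow hq0
  -- the vectors
  obtain ⟨e0, he0⟩ : ∃ e : Fin 3 → F, e = ![1, 0, 0] := ⟨_, rfl⟩
  obtain ⟨w', hw'⟩ : ∃ e : Fin 3 → F, e = ![α, γ, 0] := ⟨_, rfl⟩
  obtain ⟨v, hv⟩ : ∃ e : Fin 3 → F, e = ![α, 0, γ] := ⟨_, rfl⟩
  obtain ⟨v', hv'⟩ : ∃ e : Fin 3 → F, e = ![α, y, z] := ⟨_, rfl⟩
  have ne0 : H3 e0 e0 = 1 := by rw [herm_coord, he0]; simp [hz0]
  have nw : H3 w' w' = 1 := by rw [herm_coord, hw']; simp [hz0]; linear_combination hα + hγ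
  have nv : H3 v v = 1 := by rw [herm_coord, hv]; simp [hz0]; linear_combination hα + hγ
  have nv' : H3 v' v' = 1 := by rw [herm_coord, hv']; simp; linear_combination hα + hyz
  have ivw : H3 v w' = t := by rw [herm_coord, hv, hw']; simp [hz0, hα]
  have iwv : H3 w' v = t := by rw [← herm_swap hF v w', ivw, htq]
  have iv'w : H3 v' w' = ε * t := by rw [herm_coord, hv', hw']; simp [hz0, hy]
  have iwv' : H3 w' v' = ε ^ q * t := by rw [← herm_swap hF v' w', iv'w, mul_pow, htq]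
  -- the element fixing the first point
  obtain ⟨p, hp1, hp2⟩ := exists_map_pair hF (v := e0) (w := ![0, 0, 1]) (v' := e0)
    (w' := ![0, y / γ, z / γ]) ne0 (by rw [herm_coord]; simp [hz0]) (by rw [herm_coord, he0]; simp [hz0])
    ne0 (by
      rw [herm_coord]; simp [hz0, div_pow]
      field_simp
      linear_combination hyz - hγ)
    (by rw [herm_coord, he0]; simp [hz0])
  have hpv : ap p v = v' := by
    rw [show v = α • e0 + γ • ![0, 0, 1] by rw [hv, he0]; ext i; fin_cases i <;> simp, ap_add, ap_smul, ap_smul,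
      hp1, hp2, hv', he0]
    ext i
    fin_cases i <;> simp <;> field_simp
  -- the element fixing the second point
  obtain ⟨r, hr1, hr2⟩ := exists_map_pair hF (v := w') (w := κ⁻¹ • (v - t • w')) (v' := ε • w')
    (w' := κ⁻¹ • (v' - (ε * t) • w')) nw (by
      simp only [herm_smul_left, herm_smul_right, herm_sub_left, herm_sub_right hF, nv, nw, ivw, iwv, htq,
        _root_.inv_pow]
      field_simp
      linear_combination -hκ)
    (by
      simp only [herm_smul_right, herm_sub_right hF, nw, iwv, htq]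
      ring)
    (by rw [herm_smul_left, herm_smul_right, nw]; linear_combination hεn) (by
      simp only [herm_smul_left, herm_smul_right, herm_sub_left, herm_sub_right hF, nv', nw, iv'w, iwv',
        mul_pow, htq, _root_.inv_pow]
      field_simp
      linear_combination -hκ - (t * t) * hεn)
    (by
      simp only [herm_smul_left, herm_smul_right, herm_sub_right hF, nw, iwv', mul_pow, htq]
      ring)
  have hrv : ap r v = v' := by
    conv_lhs => rw [show v = t • w' + κ • (κ⁻¹ • (v - t • w')) by rw [smul_smul, mul_inv_cancel₀ hκ0]; module]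
    rw [ap_add, ap_smul, ap_smul, hr1, hr2]
    simp only [smul_smul, mul_inv_cancel₀ hκ0]
    module
  have hew : H3 (ε • w') (ε • w') = 1 := by rw [herm_smul_left, herm_smul_right, nw]; linear_combination hεn
  obtain ⟨k, hk0, hkw, hkv⟩ := glue hbin (A := {φ e0 ne0}) (B := {φ w' nw}) (C := {φ v nv}) (g := p) (p := p)
    (r := r) (by rintro _ rfl; exact hφ p _ _ _ _ hp1) (fun c _ => rfl)
    (by rintro _ rfl; rw [hφ r _ _ _ hew hr1, hφμ w' nw ε hε hew])
    (by rintro _ rfl; rw [hφ r _ _ _ nv' hrv, hφ p _ _ _ nv' hpv])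
  -- the glued element is diagonal
  have hkv' := hkv _ rfl
  rw [hφ p _ _ _ nv' hpv] at hkv'
  have move : ∀ (p' : Fin 3 → F) hp' (x : Fin 3 → F) (hx : H3 x x = 1), k • φ p' hp' = φ x hx →
      ∃ c, μ c ∧ ap k p' = c • x := by
    intro p' hp' x hx e
    rw [hφ k p' hp' (ap k p') (by rw [herm_ap, hp']) rfl] at e
    exact hφinj _ _ _ _ e.symm
  obtain ⟨c1, hc1, e1⟩ := move _ _ _ _ (hk0 _ rfl)
  obtain ⟨c2, hc2, e2⟩ := move _ _ _ _ (hkw _ rfl)
  obtain ⟨c3, hc3, e3⟩ := move _ _ _ _ hkv'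
  have hc10 : c1 ≠ 0 := fun h => by have := hμ c1 hc1; rw [h, zero_mul] at this; exact zero_ne_one this
  obtain ⟨E1, hE1⟩ : ∃ e : Fin 3 → F, e = ![0, 1, 0] := ⟨_, rfl⟩
  obtain ⟨E2, hE2⟩ : ∃ e : Fin 3 → F, e = ![0, 0, 1] := ⟨_, rfl⟩
  have perp0 : ∀ x, H3 x e0 = 0 → ap k x 0 = 0 := by
    intro x hx
    have h := herm_ap k x e0
    rw [hx, e1, herm_smul_right, herm_coord, he0] at h
    simp [hz0, hc10, hq0] at h
    exact h
  have hkE1 : ap k E1 = c1 • E1 := by
    have hd : ap k w' = α • ap k e0 + γ • ap k E1 := by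
      rw [← ap_smul, ← ap_smul, ← ap_add, show w' = α • e0 + γ • E1 by
        rw [hw', he0, hE1]; ext i; fin_cases i <;> simp]
    rw [e1, e2] at hd
    have h00 := perp0 E1 (by rw [herm_coord, he0, hE1]; simp [hz0])
    have hc : c2 = c1 := by
      have h0 := congrFun hd 0
      rw [hw', he0] at h0
      simp [h00] at h0
      exact mul_right_cancel₀ hα0 (by linear_combination h0)
    ext i
    have hi := congrFun hd i
    rw [hc, hw', he0] at hi
    rw [hE1] at hi ⊢
    fin_cases i <;> simp at hi ⊢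
    · rw [← hE1]; exact h00
    · apply mul_left_cancel₀ hγ0
      linear_combination -hi
    · exact hi.resolve_left hγ0
  obtain ⟨d, hkE2⟩ : ∃ d, ap k E2 = d • E2 := by
    refine ⟨ap k E2 2, ?_⟩
    have h00 := perp0 E2 (by rw [herm_coord, he0, hE2]; simp [hz0])
    have h10 := herm_ap k E2 E1
    rw [hkE1, herm_smul_right, herm_coord (ap k E2), herm_coord E2, hE1] at h10
    have h10' : ap k E2 1 = 0 := by
      rw [hE2] at h10 ⊢
      simpa [hz0, hc10, hq0] using h10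
    ext i
    rw [hE2] at h00 h10' ⊢
    fin_cases i <;> simp [h00, h10']
  have hdet : c1 * c1 * d = 1 := by
    have hm : mat k = Matrix.diagonal ![c1, c1, d] := by
      refine Matrix.ext_iff_mulVec.2 fun x => ?_
      rw [← ap_def, show x = x 0 • e0 + x 1 • E1 + x 2 • E2 by
        rw [he0, hE1, hE2]; ext i; fin_cases i <;> simp, ap_add, ap_add, ap_smul, ap_smul, ap_smul, e1, hkE1,
        hkE2, he0, hE1, hE2]
      ext i
      fin_cases i <;> simp [mulVec_diagonal] <;> ring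
    have : (mat k).det = 1 := (k : Matrix.SpecialLinearGroup (Fin 3) F).2
    rwa [hm, det_diagonal, Fin.prod_univ_three] at this
  have hd3 : ap k v = α • (c1 • e0) + γ • (d • E2) := by
    rw [← e1, ← hkE2, ← ap_smul, ← ap_smul, ← ap_add, show v = α • e0 + γ • E2 by
      rw [hv, he0, hE2]; ext i; fin_cases i <;> simp]
  rw [e3, hv', he0, hE2] at hd3
  have d0 := congrFun hd3 0
  have d1 := congrFun hd3 1
  have d2 := congrFun hd3 2
  simp at d0 d1 d2
  have hc31 : c3 = c1 := mul_right_cancel₀ hα0 (by linear_combination d0)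
  rcases hcase with hy0 | ⟨hμ1, hz⟩
  · rcases d1 with h | h
    · exact hc10 (hc31 ▸ h)
    · exact hy0 h
  · rw [hμ1 c3 hc3, one_mul] at d2
    rw [hμ1 c1 hc1, one_mul, one_mul] at hdet
    exact hz (by rw [d2, hdet, mul_one])

end Cfsg.Agent.H79.OneClassBinary
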