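import Cfsg.Agent.H79.OneClassBinary.UThree

/-!
The binary coset actions of `PSU₃(q)`, `q` even, with point stabilisers of even order.
-/

set_option autoImplicit false
set_option linter.unusedSectionVars false

namespace Cfsg.Agent.H79.OneClassBinary

open Cfsg MulAction Cfsg.Agent.Unitary Cfsg.Agent.H52.SUThree Cfsg.Agent.H72.PSUThree Cfsg.Agent.H33.Binary
open Matrix hiding vec vec_smul

/-- The centre of a subgroup, inside the group. -/
theorem mem_center_sub {G : Type*} [Group G] {K : Subgroup G} {y : G} :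
    y ∈ (Subgroup.center K).map K.subtype ↔ y ∈ K ∧ ∀ x ∈ K, x * y = y * x := by
  constructor
  · rintro ⟨⟨y, hy⟩, hz, rfl⟩
    exact ⟨hy, fun x hx => congrArg Subtype.val (Subgroup.mem_center_iff.1 hz ⟨x, hx⟩)⟩
  · rintro ⟨hy, hc⟩
    exact ⟨⟨y, hy⟩, Subgroup.mem_center_iff.2 fun x => Subtype.ext (hc x x.2), rfl⟩

theorem center_sub_map {G L : Type*} [Group G] [Group L] (e : G ≃* L) (K : Subgroup G) :
    ((Subgroup.center K).map K.subtype).map e.toMonoidHom =
      (Subgroup.center (K.map e.toMonoidHom : Subgroup L)).map (K.map e.toMonoidHom).subtype := by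
  ext y
  rw [Subgroup.mem_map_equiv, mem_center_sub, mem_center_sub, Subgroup.mem_map_equiv]
  refine and_congr_right fun _ => ⟨fun h x hx => ?_, fun h x hx => ?_⟩
  · have := congrArg e (h _ (Subgroup.mem_map_equiv.1 hx))
    simpa using this
  · have := congrArg e.symm (h (e x) (Subgroup.mem_map_of_mem _ hx))
    simpa using this

variable {F : Type*} [Field F] [Fintype F] [CharP F 2] {q : ℕ} {u w f : Fin 3 → F}

local notation "X" => SU 3 F q
local notation "Pts" => IsoPoint 3 F q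
local notation "LL" => PSU 3 F q
local notation "π" => QuotientGroup.mk' (Subgroup.center (SU 3 F q))

theorem center_smul_pt (hF : Fintype.card F = q ^ 2) {z : X} (hz : z ∈ Subgroup.center X) {P : Pts}
    (hP : z • P = P) (Q : Pts) : z • Q = Q := by
  obtain ⟨g, rfl⟩ := exists_smul_isoPt hF le_rfl P Q
  rw [smul_smul, ← Subgroup.mem_center_iff.1 hz g, mul_smul, hP]

theorem center_inter_uni (hF : Fintype.card F = q ^ 2) (hfr : Frame q u w f) {z : X}
    (hz : z ∈ Subgroup.center X) (hu : z ∈ uni u) : z = 1 := by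
  by_contra h
  exact pu_ne_pf hfr (uni_unique_fix hF hfr hu h
    (center_smul_pt hF hz (mem_stabilizer_iff.1 (uni_le_st hfr hu)) _)).symm

theorem center_sq (hF : Fintype.card F = q ^ 2) {z : X} (hz : z ∈ Subgroup.center X) (h2 : z * z = 1) :
    z = 1 := by
  obtain ⟨P, hP⟩ := exists_root_of_sq hF h2
  obtain ⟨u, w, f, hfr, rfl⟩ := exists_frame_at hF P
  exact center_inter_uni hF hfr hz (root_le_uni hF hfr hP)

theorem center_two_pow (hF : Fintype.card F = q ^ 2) : ∀ (i : ℕ) {z : X}, z ∈ Subgroup.center X →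
    z ^ 2 ^ i = 1 → z = 1
  | 0, z, _, h => by simpa using h
  | i + 1, z, hz, h => by
    rw [pow_succ', pow_mul] at h
    exact center_sq hF hz (by rw [← pow_two]; exact center_two_pow hF i (pow_mem hz 2) h)

theorem mk_eq_one {z : X} : π z = 1 ↔ z ∈ Subgroup.center X := QuotientGroup.eq_one_iff z

/-- An involution of the quotient lifts to one. -/
theorem exists_invol_lift (hF : Fintype.card F = q ^ 2) {v : LL} (hv : orderOf v = 2) :
    ∃ x : X, x * x = 1 ∧ π x = v := by
  obtain ⟨y, rfl⟩ := QuotientGroup.mk'_surjective (Subgroup.center X) v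
  obtain ⟨j, o, ho, hy⟩ := Nat.exists_eq_two_pow_mul_odd (orderOf_pos y).ne'
  obtain ⟨i, hi⟩ := ho
  have hpv : π (y ^ o) = π y := by
    rw [map_pow, hi, pow_succ, pow_mul]
    rw [show (π y) ^ 2 = 1 from hv ▸ pow_orderOf_eq_one (π y), one_pow, one_mul]
  refine ⟨y ^ o, center_two_pow hF j (mk_eq_one.1 ?_) ?_, hpv⟩
  · rw [map_mul, hpv, ← pow_two]
    exact hv ▸ pow_orderOf_eq_one (π y)
  · rw [← pow_two, ← pow_mul, ← pow_mul, show o * (2 * 2 ^ j) = 2 ^ j * o * 2 by ring, ← hy, pow_mul,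
      pow_orderOf_eq_one, one_pow]

theorem orderOf_mk (hF : Fintype.card F = q ^ 2) {v : X} (hv1 : v ≠ 1) (hv2 : v * v = 1) :
    orderOf (π v) = 2 :=
  orderOf_eq_prime (by rw [pow_two, ← map_mul, hv2, map_one]) fun h => hv1 (center_sq hF (mk_eq_one.1 h) hv2)

theorem mk_eq_iff_of_sq (hF : Fintype.card F = q ^ 2) {v v' : X} (hv : v * v = 1) (hv' : v' * v' = 1)
    (h : π v = π v') : v = v' := by
  have hz : v⁻¹ * v' ∈ Subgroup.center X := QuotientGroup.eq.1 h
  have h' : v * (v⁻¹ * v') = v' := mul_inv_cancel_left v v'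
  have h1 : v⁻¹ * v' = 1 := center_sq hF hz (by
    calc v⁻¹ * v' * (v⁻¹ * v') = v * v * (v⁻¹ * v' * (v⁻¹ * v')) := by rw [hv, one_mul]
      _ = v * (v⁻¹ * v') * (v * (v⁻¹ * v')) := by
        rw [show v * (v⁻¹ * v') * (v * (v⁻¹ * v')) = v * ((v⁻¹ * v') * v) * (v⁻¹ * v') by group,
          ← Subgroup.mem_center_iff.1 hz v]
        group
      _ = 1 := by rw [h', hv'])
  exact inv_mul_eq_one.1 h1

/-- A Sylow subgroup of the quotient is the image of the unipotents at a point. -/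
theorem sylow_eq (hF : Fintype.card F = q ^ 2) (T : Sylow 2 X) :
    ∃ (u w f : Fin 3 → F) (_ : Frame q u w f), (T : Subgroup X) = uni u := by
  have : Fact (Nat.Prime 2) := ⟨Nat.prime_two⟩
  obtain ⟨u, w, f, hfr⟩ := exists_frame (F := F) hF
  have hodd : ¬ 2 ∣ Nat.card Pts := by
    rw [card_pts hF hfr, ← even_iff_two_dvd]
    intro h
    rw [Nat.even_add_one, Nat.even_pow' (by norm_num)] at h
    exact h (even_q (F := F) hF)
  obtain ⟨P, hP⟩ := T.isPGroup'.nonempty_fixed_point_of_prime_not_dvd_card Pts hodd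
  obtain ⟨u, w, f, hfr, rfl⟩ := exists_frame_at hF P
  refine ⟨u, w, f, hfr, (T.is_maximal' ?_ fun g hg => ?_).symm⟩
  · obtain ⟨p, k, hp, -, hc, hk⟩ := exists_char_pow hF
    obtain rfl := CharP.eq F hc ‹CharP F 2›
    exact IsPGroup.of_card (n := k * 3) (by rw [card_uni hF hfr, hk, ← pow_mul])
  · have hst : g ∈ st hfr := mem_stabilizer_iff.2 (hP ⟨g, hg⟩)
    refine (lamHom_eq_one_iff hF hfr (g := ⟨g, hst⟩)).1 ?_
    obtain ⟨i, hi⟩ := T.isPGroup' ⟨g, hg⟩
    have hi' : g ^ 2 ^ i = 1 := by simpa using congrArg Subtype.val hi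
    have h2 : lamHom hF hfr ⟨g, hst⟩ ^ 2 ^ i = 1 := by
      rw [← map_pow, show (⟨g, hst⟩ : st hfr) ^ 2 ^ i = 1 from Subtype.ext (by simpa using hi'), map_one]
    have hd := orderOf_dvd_of_pow_eq_one h2
    have hod : Odd (orderOf (lamHom hF hfr ⟨g, hst⟩)) :=
      (odd_card_units (F := F) hF).of_dvd_nat (orderOf_dvd_natCard _)
    rw [← orderOf_eq_one_iff]
    exact Nat.eq_one_of_dvd_coprimes ((Nat.coprime_two_left.2 hod).pow_left i).symm dvd_rfl hd

/-- The centre of the image of the unipotents. -/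
theorem center_uni_map (hF : Fintype.card F = q ^ 2) (hfr : Frame q u w f) (K : Subgroup LL)
    (hK : K = (uni u).map π) :
    (Subgroup.center K).map K.subtype = (rootSub (pu hfr)).map π := by
  ext y
  rw [mem_center_sub, hK]
  constructor
  · rintro ⟨⟨x, hx, rfl⟩, hc⟩
    obtain ⟨b, β, h, rfl⟩ := (mem_uni_iff hF hfr).1 hx
    suffices hb : b = 0 by
      subst hb
      exact Subgroup.mem_map_of_mem _ ((mem_root_iff hF hfr).2 ⟨β, h, rfl⟩)
    obtain ⟨c, hcq⟩ : ∃ c : F, c ^ q ≠ c := by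
      obtain ⟨c, hc⟩ := exists_trace_ne_zero (F := F) hF
      exact ⟨c, fun e => hc (by rw [e, CharTwo.add_self_eq_zero])⟩
    have hall : ∀ c : F, b * c ^ q = c * b ^ q := by
      intro c
      obtain ⟨γ, h'⟩ := exists_ok hF c
      have hy := hc _ (Subgroup.mem_map_of_mem π (E_mem_uni hF hfr h'))
      rw [← map_mul, ← map_mul, E_mul hF hfr h' h, E_mul hF hfr h h'] at hy
      have hz : (eSU hF ((h'.add hF h).spec hfr))⁻¹ * eSU hF ((h.add hF h').spec hfr) ∈ Subgroup.center X :=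
        QuotientGroup.eq.1 hy
      have h1 := inv_mul_eq_one.1 (center_inter_uni hF hfr hz
        (mul_mem (inv_mem (E_mem_uni hF hfr (h'.add hF h))) (E_mem_uni hF hfr (h.add hF h'))))
      linear_combination -(E_inj hF hfr (h'.add hF h) (h.add hF h') h1).2
    have h1 := hall 1
    rw [one_pow, mul_one, one_mul] at h1
    have h2 := hall c
    rw [← h1] at h2
    by_contra hb
    exact hcq (mul_left_cancel₀ hb (by linear_combination h2))
  · rintro ⟨x, hx, rfl⟩
    refine ⟨Subgroup.mem_map_of_mem _ (root_le_uni hF hfr hx), ?_⟩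
    rintro _ ⟨x', hx', rfl⟩
    obtain ⟨β, h, rfl⟩ := (mem_root_iff hF hfr).1 hx
    obtain ⟨c, γ, h', rfl⟩ := (mem_uni_iff hF hfr).1 hx'
    rw [← map_mul, ← map_mul, E_mul hF hfr h' h, E_mul hF hfr h h']
    exact congrArg _ (E_congr hF hfr (h'.add hF h) (h.add hF h') (add_comm _ _)
      (by rw [zero_pow (q_ne_zero hF)]; ring))

variable [IsSimpleGroup (PSU 3 F q)]

/-- Forward direction. -/
theorem psu_forward (hF : Fintype.card F = q ^ 2) (hq : 4 ≤ q)
    (hone : ∀ s t : LL, orderOf s = 2 → orderOf t = 2 → IsConj s t)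
    {H : Subgroup LL} (hH : H ≠ ⊤) (heven : Even (Nat.card H))
    (hsyl : ∀ z : LL, orderOf z = 2 → ∃ S : Sylow 2 LL,
      fixStab (LL ⧸ H) z = Subgroup.normalizer ((S : Subgroup LL) : Set LL))
    (hbin : IsBinaryAct LL (LL ⧸ H)) :
    ∃ P : Sylow 2 LL, H = (Subgroup.center (P : Subgroup LL)).map (P : Subgroup LL).subtype := by
  have : Fact (Nat.Prime 2) := ⟨Nat.prime_two⟩
  let _ : MulAction (SU 3 F q) (LL ⧸ H) := MulAction.compHom _ π
  have hact : ∀ (g : X) (ω : LL ⧸ H), g • ω = π g • ω := fun _ _ => rfl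
  have : IsPretransitive (SU 3 F q) (LL ⧸ H) := ⟨fun x y => by
    obtain ⟨l, hl⟩ := exists_smul_eq LL x y
    obtain ⟨g, rfl⟩ := QuotientGroup.mk'_surjective (Subgroup.center X) l
    exact ⟨g, hl⟩⟩
  have D : Data (F := F) (q := q) (LL ⧸ H) := by
    refine ⟨hF, hq, (isBinaryAct_congr (QuotientGroup.mk'_surjective (Subgroup.center X))
      (Equiv.refl _) fun g x => rfl).2 hbin, fun ω h => hH (eq_top_iff.2 fun l _ => ?_), ?_, ?_, ?_, ?_⟩
    · induction ω using QuotientGroup.induction_on with | H c => ?_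
      obtain ⟨g, hg⟩ := QuotientGroup.mk'_surjective (Subgroup.center X) (c * l * c⁻¹)
      have h1 : g • (c : LL ⧸ H) = c := mem_stabilizer_iff.1 (h ▸ Subgroup.mem_top g)
      rw [hact, hg, MulAction.Quotient.smul_coe, smul_eq_mul, eq_comm, QuotientGroup.eq] at h1
      simpa [mul_assoc] using h1
    · intro z hz ω
      rw [hact, mk_eq_one.2 hz, one_smul]
    · intro ω
      obtain ⟨z, hz, hzH⟩ := exists_invol_mem heven
      induction ω using QuotientGroup.induction_on with | H c => ?_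
      obtain ⟨x, hx2, hx⟩ := exists_invol_lift hF (v := c * z * c⁻¹)
        (by rw [← MulAut.conj_apply, MulEquiv.orderOf_eq, hz])
      refine ⟨x, fun e => ?_, hx2, ?_⟩
      · rw [e, map_one, eq_comm, conj_eq_one_iff] at hx
        rw [hx, orderOf_one] at hz
        omega
      · rw [hact, hx, MulAction.Quotient.smul_coe, smul_eq_mul, QuotientGroup.eq]
        simpa [mul_assoc] using hzH
    · intro v v' hv1 hv2 hv1' hv2' hc ω hω
      have e := fixedBy_eq_of_commute (Ω := LL ⧸ H) hone hbin (orderOf_mk hF hv1 hv2)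
        (orderOf_mk hF hv1' hv2') (hc.map π)
      exact (e ▸ (hω : π v • ω = ω) : ω ∈ fixedBy (LL ⧸ H) (π v'))
    · intro v v' hv1 hv2 hv1' hv2' hne ω hω
      exact smul_eq_of_mul_fix hone hsyl hbin (orderOf_mk hF hv1 hv2) (orderOf_mk hF hv1' hv2')
        (fun e => hne (mk_eq_iff_of_sq hF hv2 hv2' e)) (by rw [← map_mul]; exact hω)
  obtain ⟨P, hP⟩ := D.stabilizer_eq ((1 : LL) : LL ⧸ H)
  obtain ⟨u, w, f, hfr, rfl⟩ := exists_frame_at hF P
  have hHeq : H = (rootSub (pu hfr)).map π := by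
    ext l
    obtain ⟨g, rfl⟩ := QuotientGroup.mk'_surjective (Subgroup.center X) l
    rw [← smul_one_eq_iff (H := H), ← hact, ← mem_stabilizer_iff, hP, Subgroup.mem_sup_of_normal_right]
    constructor
    · rintro ⟨r, hr, z, hz, rfl⟩
      rw [map_mul, mk_eq_one.2 hz, mul_one]
      exact Subgroup.mem_map_of_mem _ hr
    · rintro ⟨r, hr, e⟩
      exact ⟨r, hr, r⁻¹ * g, QuotientGroup.eq.1 e, mul_inv_cancel_left r g⟩
  have hpu : IsPGroup 2 (uni u : Subgroup X) := by
    obtain ⟨p, k, hp, -, hc, hk⟩ := exists_char_pow hF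
    obtain rfl := CharP.eq F hc ‹CharP F 2›
    exact IsPGroup.of_card (n := k * 3) (by rw [card_uni hF hfr, hk, ← pow_mul])
  obtain ⟨T, hT⟩ := hpu.exists_le_sylow
  obtain ⟨u', w', f', hfr', hT'⟩ := sylow_eq hF T
  have hTu : (T : Subgroup X) = uni u := (Subgroup.eq_of_le_of_card_ge hT
    (by rw [hT', card_uni hF hfr', card_uni hF hfr])).symm
  refine ⟨T.mapSurjective (QuotientGroup.mk'_surjective (Subgroup.center X)), ?_⟩
  rw [hHeq, center_uni_map hF hfr _ (by rw [Sylow.coe_mapSurjective, hTu])]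

/-- Backward direction. -/
theorem psu_backward (hF : Fintype.card F = q ^ 2) (P : Sylow 2 LL) :
    IsBinaryAct LL (LL ⧸ (Subgroup.center (P : Subgroup LL)).map (P : Subgroup LL).subtype) := by
  have : Fact (Nat.Prime 2) := ⟨Nat.prime_two⟩
  obtain ⟨T, rfl⟩ := Sylow.mapSurjective_surjective (QuotientGroup.mk'_surjective (Subgroup.center X)) 2 P
  obtain ⟨u, w, f, hfr, hT⟩ := sylow_eq hF T
  rw [center_uni_map hF hfr _ (by rw [Sylow.coe_mapSurjective, hT])]
  refine binary_of_closed ?_ ?_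
  · rintro _ ⟨x, hx, rfl⟩
    rw [← map_mul, root_sq hF hx, map_one]
  · rintro _ ⟨x, hx, rfl⟩ hx1 y hy1 hy2 hxy
    obtain ⟨y, hy, rfl⟩ := exists_invol_lift hF (orderOf_eq_prime (by rw [pow_two, hy2]) hy1)
    have hx0 : x ≠ 1 := fun e => hx1 (by rw [e, map_one])
    have hc : y * x * y⁻¹ = x := by
      refine mk_eq_iff_of_sq hF ?_ (root_sq hF hx) ?_
      · calc y * x * y⁻¹ * (y * x * y⁻¹) = y * (x * x) * y⁻¹ := by group
          _ = 1 := by rw [root_sq hF hx, mul_one, mul_inv_cancel]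
      · rw [map_mul, map_mul, map_inv, ← hxy, mul_inv_cancel_right]
    refine Subgroup.mem_map_of_mem _ (mem_root_of_sq hF hfr hy (eq_of_mem_root hF hx hx0 ?_))
    conv_lhs => rw [← hc]
    rw [mul_smul, mul_smul, inv_smul_smul, smul_of_mem_root hF hx]

end Cfsg.Agent.H79.OneClassBinary
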