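import Cfsg.Agent.H72.PSUThree.Line
import Cfsg.Agent.H79.OneClassBinary.Orth

/-!
Subgroups of `SU₃(q)`, `q` even, containing two root groups.
-/

set_option autoImplicit false
set_option linter.unusedSectionVars false

namespace Cfsg.Agent.H79.OneClassBinary

open Cfsg MulAction Cfsg.Agent.Unitary Cfsg.Agent.H52.SUThree Cfsg.Agent.H72.PSUThree
open Matrix hiding vec vec_smul

variable {F : Type*} [Field F] [Fintype F] {q : ℕ} {u w f : Fin 3 → F}

local notation "G" => SU 3 F q
local notation "Pts" => IsoPoint 3 F q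

/-- Two root groups and a third one off their line generate the whole group. -/
theorem eq_top_of_roots (hF : Fintype.card F = q ^ 2) (hq : 3 ≤ q) (hfr : Frame q u w f)
    {H : Subgroup G} (hu : rootSub (pu hfr) ≤ H) (hf : rootSub (pf hfr) ≤ H) {x : Pts}
    (hxH : rootSub x ≤ H) (hxl : ¬ OnLine q w x) : H = ⊤ := by
  obtain ⟨b, β, hok, rfl⟩ := exists_E_pf hF hfr (x := x) (fun e => hxl (e ▸ onLine_pu hfr))
  have hb0 : b ≠ 0 := fun e => hxl ((onLine_E_pf_iff hF hfr hok).2 e)
  -- the parameters of the centres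
  let B : F → Prop := fun c => ∀ γ, ∀ h : Ok q c γ, rootSub (eSU hF (h.spec hfr) • pf hfr) ≤ H
  have fibre : ∀ {c γ : F} (h : Ok q c γ), rootSub (eSU hF (h.spec hfr) • pf hfr) ≤ H → B c := by
    intro c γ h hle γ' h'
    have h0 : Ok q (0 : F) (γ' - γ) := by
      rw [ok_zero_iff hF, sub_pow_q hF]
      have h2 : γ + γ ^ q + c * c ^ q = 0 := h
      have h3 : γ' + γ' ^ q + c * c ^ q = 0 := h'
      linear_combination h3 - h2
    have := root_conj_le (hu ((mem_root_iff hF hfr).2 ⟨_, h0, rfl⟩)) hle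
    rwa [smul_smul, E_mul hF hfr h0 h, E_congr hF hfr (h0.add hF h) h' (zero_add c)
      (by rw [zero_pow (q_ne_zero hF)]; ring)] at this
  have step : ∀ {c : F}, B c → c ≠ 0 → ∀ z : F, z ^ q ≠ z → B (c / z) := by
    intro c hc hc0 z hz
    have hz0 : z ≠ 0 := fun h => hz (by rw [h, zero_pow (q_ne_zero hF)])
    have hN : c * c ^ q ≠ 0 := mul_ne_zero hc0 ((pow_q_eq_zero_iff hF).not.2 hc0)
    set τ := -(z - z ^ q) / (c * c ^ q) with hτ
    have hτ0 : τ ≠ 0 := div_ne_zero (neg_ne_zero.2 (sub_ne_zero.2 (Ne.symm hz))) hN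
    have hτs : Ok q (0 : F) τ := by
      rw [ok_zero_iff hF, hτ, div_pow, neg_pow_q hF, sub_pow_q hF, pow_q_q hF, norm_pow_q hF]
      ring
    set γ := (z - 1) / τ with hγ
    have hτq : τ ^ q = -τ := eq_neg_of_add_eq_zero_right ((ok_zero_iff hF).1 hτs)
    have hγok : Ok q c γ := by
      have : c * c ^ q = -(z - z ^ q) / τ := by rw [hτ]; field_simp
      simp only [Ok, hγ, div_pow, hτq, sub_pow_q hF, one_pow, this]
      field_simp
      ring
    have h1 := root_conj_le (hf (E'_mem_root hF hfr hτs)) (hc γ hγok)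
    have hok2 : Ok q (c / z) (γ / z) := by
      have hzq := (pow_q_eq_zero_iff hF).not.2 hz0
      have h2 : γ + γ ^ q + c * c ^ q = 0 := hγok
      have e1 : z - 1 = τ * γ := by rw [hγ]; field_simp
      have e2 : z ^ q - 1 = -τ * γ ^ q := by
        have := congrArg (· ^ q) e1
        simpa only [sub_pow_q hF, one_pow, mul_pow, hτq] using this
      simp only [Ok, div_pow]
      field_simp
      linear_combination h2 + γ * e2 + γ ^ q * e1
    refine fibre hok2 ?_
    have e : eSU hF (hτs.spec' hfr) • (eSU hF (hγok.spec hfr) • pf hfr) =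
        eSU hF (hok2.spec hfr) • pf hfr := by
      rw [smul_smul]
      refine Subtype.ext ?_
      show (Submodule.span F {f}).map _ = (Submodule.span F {f}).map _
      rw [map_span_singleton, map_span_singleton, ap_mul, ap_E_f hF hfr hγok,
        ap_E' hF hfr hτs, ap_E_f hF hfr hok2, zero_mul, add_zero, zero_pow (q_ne_zero hF), zero_mul,
        sub_zero,
        show vec u w f γ c (1 + τ * γ) = z • vec u w f (γ / z) (c / z) 1 by
          rw [vec_smul, show 1 + τ * γ = z by rw [hγ]; field_simp; ring, mul_one,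
            mul_div_cancel₀ γ hz0, mul_div_cancel₀ c hz0]]
      exact Submodule.span_singleton_smul_eq hz0.isUnit _
    rwa [e] at h1
  have hBb := fibre hok hxH
  obtain ⟨z₁, hz₁⟩ : ∃ z : F, z ^ q ≠ z := by
    obtain ⟨δ, hδ0, hδ⟩ := exists_skew hF
    by_contra hcon
    push Not at hcon
    obtain ⟨y, hy⟩ := exists_trace_ne_zero hF
    have h1 := hcon δ
    rw [hδ] at h1
    have h2 := hcon y
    have h3 : (2 : F) * δ = 0 := by linear_combination -h1
    rcases mul_eq_zero.1 h3 with h4 | h4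
    · exact hy (by rw [h2]; linear_combination y * h4)
    · exact hδ0 h4
  have hz₁0 : z₁ ≠ 0 := fun h => hz₁ (by rw [h, zero_pow (q_ne_zero hF)])
  have hBall : ∀ c : F, c ≠ 0 → B c := by
    intro c hc
    by_cases hcase : (b / c) ^ q = b / c
    · have hz₂ : (b / c / z₁) ^ q ≠ b / c / z₁ := by
        intro h
        rw [div_pow, hcase, div_eq_div_iff ((pow_q_eq_zero_iff hF).not.2 hz₁0) hz₁0] at h
        exact hz₁ (mul_left_cancel₀ (div_ne_zero hb0 hc) h).symm
      have := step (step hBb hb0 z₁ hz₁) (div_ne_zero hb0 hz₁0) _ hz₂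
      rwa [show b / z₁ / (b / c / z₁) = c by field_simp] at this
    · have := step hBb hb0 _ hcase
      rwa [show b / (b / c) = c by field_simp] at this
  have hroots : ∀ y : Pts, rootSub y ≤ H := by
    intro y
    by_cases hy : y = pu hfr
    · rw [hy]; exact hu
    obtain ⟨c, γ, h, rfl⟩ := exists_E_pf hF hfr hy
    rcases eq_or_ne c 0 with rfl | hc
    · exact root_conj_le (hu ((mem_root_iff hF hfr).2 ⟨_, h, rfl⟩)) hf
    · exact hBall c hc γ h
  have htop := (iwasawaSU (n := 3) (F := F) hF (Or.inr ⟨rfl, hq⟩)).is_generator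
  exact top_le_iff.1 (htop ▸ iSup_le hroots)

variable [CharP F 2]

theorem ok_zero_of_fixed (hF : Fintype.card F = q ^ 2) {β : F} (h : β ^ q = β) : Ok q (0 : F) β := by
  rw [ok_zero_iff hF, h, CharTwo.add_self_eq_zero]

theorem fixed_of_ok_zero (hF : Fintype.card F = q ^ 2) {β : F} (h : Ok q (0 : F) β) : β ^ q = β :=
  (CharTwo.add_eq_zero.1 ((ok_zero_iff hF).1 h)).symm

theorem ap_E0 (hF : Fintype.card F = q ^ 2) (hfr : Frame q u w f) {β : F} (h : Ok q (0 : F) β) (p r s : F) :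
    ap (eSU hF (h.spec hfr)) (vec u w f p r s) = vec u w f (p + β * s) r s := by
  rw [ap_E hF hfr h, zero_pow (q_ne_zero hF)]
  congr 1 <;> ring

theorem ap_E0' (hF : Fintype.card F = q ^ 2) (hfr : Frame q u w f) {β : F} (h : Ok q (0 : F) β) (p r s : F) :
    ap (eSU hF (h.spec' hfr)) (vec u w f p r s) = vec u w f p r (s + β * p) := by
  rw [ap_E' hF hfr h, zero_pow (q_ne_zero hF)]
  congr 1 <;> ring

/-- The fixer of `w` is generated by the two root groups. -/
theorem fixer_le (hF : Fintype.card F = q ^ 2) (hfr : Frame q u w f) {H : Subgroup G}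
    (hu : rootSub (pu hfr) ≤ H) (hf : rootSub (pf hfr) ≤ H) {g : G} (hg : ap g w = w) : g ∈ H := by
  have hE : ∀ {β : F} (h : Ok q (0 : F) β), eSU hF (h.spec hfr) ∈ H := fun h =>
    hu ((mem_root_iff hF hfr).2 ⟨_, h, rfl⟩)
  have hE' : ∀ {β : F} (h : Ok q (0 : F) β), eSU hF (h.spec' hfr) ∈ H := fun h => hf (E'_mem_root hF hfr h)
  have h11 : Ok q (0 : F) 1 := ok_zero_of_fixed hF (one_pow q)
  set n := eSU hF (h11.spec hfr) * eSU hF (h11.spec' hfr) * eSU hF (h11.spec hfr) with hn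
  have hnH : n ∈ H := mul_mem (mul_mem (hE h11) (hE' h11)) (hE h11)
  have h2 : ∀ x : F, x + x = 0 := fun x => CharTwo.add_self_eq_zero x
  have hnap : ∀ p r s, ap n (vec u w f p r s) = vec u w f s r p := fun p r s => by
    simp only [hn, ap_mul, ap_E0 hF hfr h11, ap_E0' hF hfr h11]
    congr 1
    · linear_combination h2 p + h2 s
    · linear_combination h2 s
  have hnw : ap n w = w := by
    conv_lhs => rw [← vec_w (u := u) (w := w) (f := f), hnap, vec_w]
  -- reduce to an element fixing the point of `u`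
  obtain ⟨h, hh, hhw, hhu⟩ : ∃ h ∈ H, ap h w = w ∧ g • pu hfr = h • pu hfr := by
    by_cases hgu : g • pu hfr = pu hfr
    · exact ⟨1, one_mem _, ap_one w, by rw [hgu, one_smul]⟩
    · obtain ⟨b, β, hok, e⟩ := exists_E_pf hF hfr hgu
      have hline := onLine_smul hF hfr ((mem_lineStab hfr).2 ⟨1, one_ne_zero, by rw [hg, one_smul]⟩) (onLine_pu hfr)
      rw [e, onLine_E_pf_iff hF hfr hok] at hline
      subst hline
      refine ⟨eSU hF (hok.spec hfr) * n, mul_mem (hE hok) hnH, ?_, ?_⟩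
      · rw [ap_mul, hnw]
        simpa [vec] using ap_E0 hF hfr hok 0 1 0
      · rw [e, mul_smul]
        congr 1
        refine (smul_isoPt_eq (ne_zero_u hfr) hfr.uu (ne_zero_f hfr) hfr.ff one_ne_zero ?_).symm
        rw [one_smul]
        conv_lhs => rw [← vec_u (u := u) (w := w) (f := f), hnap, vec_f]
  suffices key : h⁻¹ * g ∈ H by simpa using mul_mem hh key
  have hfix : (h⁻¹ * g) • pu hfr = pu hfr := by rw [mul_smul, hhu, inv_smul_smul]
  have hkw : ap (h⁻¹ * g) w = w := by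
    rw [ap_mul, hg]
    conv_lhs => rw [← hhw, ap_inv_ap]
  obtain ⟨l, b, β, hok, e⟩ := exists_decomp hF hfr hfix
  rw [e] at hkw ⊢
  have hkw' : ap (eSU hF (hok.spec hfr) * tHom hF hfr l) (vec u w f 0 1 0) = vec u w f 0 1 0 :=
    (congrArg (ap _) (vec_w (u := u) (w := w) (f := f))).trans (hkw.trans (vec_w (u := u) (w := w) (f := f)).symm)
  rw [ap_mul, ap_tHom, ap_E hF hfr hok] at hkw'
  obtain ⟨h1, h3, -⟩ := vec_inj hfr hkw'
  have hl0 := l.ne_zero
  simp only [mul_zero, mul_one, zero_sub, neg_eq_zero, mul_eq_zero, add_zero] at h1 h3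
  rw [h3] at h1
  simp only [one_ne_zero, or_false] at h1
  obtain rfl : b = 0 := (pow_q_eq_zero_iff hF).1 h1
  refine mul_mem (hE hok) ?_
  have hlq : (l : F) ^ q = l := by rwa [div_eq_one_iff_eq hl0] at h3
  have hlok : Ok q (0 : F) (l : F) := ok_zero_of_fixed hF hlq
  have hlok' : Ok q (0 : F) ((l : F)⁻¹) := ok_zero_of_fixed hF (by rw [_root_.inv_pow, hlq])
  have eT : tHom hF hfr l = eSU hF (hlok.spec hfr) * eSU hF (hlok'.spec' hfr) * eSU hF (hlok.spec hfr) * n := by
    refine eq_of_ap hfr fun p r s => ?_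
    rw [ap_mul, hnap, ap_mul, ap_mul, ap_E0 hF hfr hlok, ap_E0' hF hfr hlok', ap_E0 hF hfr hlok, ap_tHom, hlq,
      div_self hl0]
    congr 1
    · field_simp
      linear_combination -(h2 s) - (h2 ((l : F) * p))
    · rw [one_mul]
    · field_simp
      linear_combination -(h2 p) * (l : F)
  rw [eT]
  exact mul_mem (mul_mem (mul_mem (hE hlok) (hE' hlok')) (hE hlok)) hnH

/-- A subgroup with two root groups is everything or lies between fixer and stabiliser of a norm-one
vector. -/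
theorem two_roots (hF : Fintype.card F = q ^ 2) (hq : 3 ≤ q) {K : Subgroup G} {P P' : Pts} (hne : P' ≠ P)
    (hP : rootSub P ≤ K) (hP' : rootSub P' ≤ K) :
    K = ⊤ ∨ ∃ p₀ : Fin 3 → F, hermForm 3 F q p₀ p₀ = 1 ∧ (∀ g : G, ap g p₀ = p₀ → g ∈ K) ∧
      ∀ g ∈ K, ∃ c : F, ap g p₀ = c • p₀ := by
  obtain ⟨u, w, f, hfr, rfl⟩ := exists_frame_at hF P
  obtain ⟨b, β, hok, rfl⟩ := exists_E_pf hF hfr hne
  set g₀ := eSU hF (hok.spec hfr) with hg₀
  have hu' : pu (frame_map hfr g₀) = pu hfr := by rw [pu_map hfr g₀, hg₀, E_smul_pu hF hfr hok]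
  rw [← hu'] at hP
  rw [← pf_map hfr g₀] at hP'
  by_cases hall : ∀ x : Pts, rootSub x ≤ K → OnLine q (ap g₀ w) x
  · refine Or.inr ⟨ap g₀ w, (frame_map hfr g₀).ww, fun g hg => fixer_le hF (frame_map hfr g₀) hP hP' hg,
      fun g hg => ?_⟩
    obtain ⟨c, -, hc⟩ := (mem_lineStab (frame_map hfr g₀)).1 (mem_lineStab_of hF (frame_map hfr g₀)
      (hall _ (root_conj_le hg hP)) (hall _ (root_conj_le hg hP')))
    exact ⟨c, hc⟩
  · push Not at hall
    obtain ⟨x, hx, hxl⟩ := hall
    exact Or.inl (eq_top_of_roots hF hq (frame_map hfr g₀) hP hP' hx hxl)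

end Cfsg.Agent.H79.OneClassBinary
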