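import Cfsg.Agent.H79.OneClassBinary.Roots

/-!
Binary actions of `SU₃(q)`, `q` even, with an involution fixing a point: the point stabiliser is a root
group times the centre.
-/

set_option autoImplicit false
set_option linter.unusedSectionVars false

namespace Cfsg.Agent.H79.OneClassBinary

open Cfsg MulAction Cfsg.Agent.Unitary Cfsg.Agent.H52.SUThree Cfsg.Agent.H72.PSUThree Cfsg.Agent.H33.Binary
open Matrix hiding vec vec_smul

variable {F : Type*} [Field F] [Fintype F] {q : ℕ} {u w f : Fin 3 → F}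

local notation "X" => SU 3 F q
local notation "Pts" => IsoPoint 3 F q

/-! ### Generalities -/

theorem ap_vec (g : X) (p r s : F) :
    ap g (vec u w f p r s) = vec (ap g u) (ap g w) (ap g f) p r s := by
  simp only [vec, ap_add, ap_smul]

theorem E_map (hF : Fintype.card F = q ^ 2) (hfr : Frame q u w f) (g : X) {b β : F} (h : Ok q b β) :
    g * eSU hF (h.spec hfr) * g⁻¹ = eSU hF (h.spec (frame_map hfr g)) := by
  refine eq_of_ap (frame_map hfr g) fun p r s => ?_
  rw [ap_E hF (frame_map hfr g) h, ap_mul, ap_mul, ← ap_vec, ap_inv_ap, ap_E hF hfr h, ap_vec]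

theorem E'_map (hF : Fintype.card F = q ^ 2) (hfr : Frame q u w f) (g : X) {b β : F} (h : Ok q b β) :
    g * eSU hF (h.spec' hfr) * g⁻¹ = eSU hF (h.spec' (frame_map hfr g)) := by
  refine eq_of_ap (frame_map hfr g) fun p r s => ?_
  rw [ap_E' hF (frame_map hfr g) h, ap_mul, ap_mul, ← ap_vec, ap_inv_ap, ap_E' hF hfr h, ap_vec]

theorem T_map (hF : Fintype.card F = q ^ 2) (hfr : Frame q u w f) (g : X) (l : Fˣ) :
    g * tHom hF hfr l * g⁻¹ = tHom hF (frame_map hfr g) l := by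
  refine eq_of_ap (frame_map hfr g) fun p r s => ?_
  rw [ap_tHom, ap_mul, ap_mul, ← ap_vec, ap_inv_ap, ap_tHom, ap_vec]

theorem pu_ne_pf (hfr : Frame q u w f) : pu hfr ≠ pf hfr := by
  intro e
  have h : u ∈ (pf hfr).1 := e ▸ Submodule.mem_span_singleton_self u
  obtain ⟨c, hc⟩ := Submodule.mem_span_singleton.1 h
  have := hfr.uf
  rw [← hc, herm_smul_left, hfr.ff, mul_zero] at this
  exact zero_ne_one this

/-- An element carrying one frame to another up to a scalar on the middle vector. -/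
theorem exists_frame_iso (hF : Fintype.card F = q ^ 2) (hfr : Frame q u w f) {u' w' f' : Fin 3 → F}
    (hfr' : Frame q u' w' f') : ∃ g : X, ap g u = u' ∧ ap g f = f' ∧ ∃ μ : F, ap g w = μ • w' := by
  obtain ⟨g₀, hg₀⟩ := exists_smul_isoPt hF le_rfl (pu hfr) (pu hfr')
  have hA : pu (frame_map hfr g₀) = pu hfr' := by rw [pu_map hfr g₀, hg₀]
  obtain ⟨b, β, hok, e⟩ := exists_E_pf hF (frame_map hfr g₀) (x := pf hfr')
    (by rw [hA]; exact (pu_ne_pf hfr').symm)
  set g₁ := eSU hF (hok.spec (frame_map hfr g₀)) * g₀ with hg₁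
  have h1 : g₁ • pu hfr = pu hfr' := by
    rw [hg₁, mul_smul, ← pu_map hfr g₀, E_smul_pu hF (frame_map hfr g₀) hok, hA]
  have h2 : g₁ • pf hfr = pf hfr' := by rw [hg₁, mul_smul, ← pf_map hfr g₀, ← e]
  have hmem1 : ap g₁ u ∈ (pu hfr').1 := by
    rw [← h1, coe_smul_isoPoint]
    exact Submodule.mem_map_of_mem (Submodule.mem_span_singleton_self u)
  have hmem2 : ap g₁ f ∈ (pf hfr').1 := by
    rw [← h2, coe_smul_isoPoint]
    exact Submodule.mem_map_of_mem (Submodule.mem_span_singleton_self f)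
  obtain ⟨l, hl⟩ := Submodule.mem_span_singleton.1 hmem1
  obtain ⟨l', hl'⟩ := Submodule.mem_span_singleton.1 hmem2
  have hl0 : l ≠ 0 := fun h => ne_zero_u hfr (ap_injective g₁ (by rw [← hl, h, zero_smul, ap_zero]))
  refine ⟨g₁ * tHom hF hfr (Units.mk0 l hl0)⁻¹, ?_, ?_⟩
  · rw [ap_mul, ap_T_u, ap_smul, ← hl, smul_smul, Units.val_inv_eq_inv_val, Units.val_mk0, inv_mul_cancel₀ hl0,
      one_smul]
  set g := g₁ * tHom hF hfr (Units.mk0 l hl0)⁻¹
  have hgu : ap g u = u' := by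
    rw [ap_mul, ap_T_u, ap_smul, ← hl, smul_smul, Units.val_inv_eq_inv_val, Units.val_mk0, inv_mul_cancel₀ hl0,
      one_smul]
  obtain ⟨c, hc⟩ : ∃ c : F, ap g f = c • f' := by
    rw [ap_mul, ap_T_f, ap_smul, ← hl', smul_smul]; exact ⟨_, rfl⟩
  have hgf : ap g f = f' := by
    have := herm_ap g f u
    rw [hgu, hc, herm_smul_left, hfr'.fu, hfr.fu, mul_one] at this
    rw [hc, this, one_smul]
  refine ⟨hgf, hermForm 3 F q (ap g w) w', ?_⟩
  have e1 := herm_ap g w u
  have e2 := herm_ap g w f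
  rw [hgu, hfr.wu] at e1
  rw [hgf, hfr.wf] at e2
  conv_lhs => rw [hfr'.expand (ap g w), e1, e2]
  simp [vec]

theorem even_q [CharP F 2] (hF : Fintype.card F = q ^ 2) : Even q := by
  have h : Even (q ^ 2) := by
    rw [← hF, even_iff_two_dvd]
    exact (CharP.cast_eq_zero_iff F 2 _).1 (Nat.cast_card_eq_zero F)
  exact (Nat.even_pow.1 h).1

theorem odd_card_units [CharP F 2] (hF : Fintype.card F = q ^ 2) : Odd (Nat.card Fˣ) := by
  rw [Unitary.card_units hF]
  obtain ⟨k, hk⟩ := even_q (F := F) hF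
  have := two_le_q hF
  exact Odd.mul ⟨k, by omega⟩ ⟨k - 1, by omega⟩

theorem units_sq_eq_one [CharP F 2] {x : Fˣ} (h : x ^ 2 = 1) : x = 1 := by
  refine Units.ext (frobenius_inj F 2 ?_)
  rw [frobenius_def, frobenius_def, ← Units.val_pow_eq_pow_val, h]
  simp

/-- A second multiplier of one puts the torus element in the centre. -/
theorem central_of_mu [CharP F 2] (hF : Fintype.card F = q ^ 2) {l : Fˣ} (h : mu q l = 1) :
    l ^ 3 = 1 ∧ l ^ (q + 1) = 1 := by
  have h' : l ^ (2 * q - 1) = 1 := h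
  have hcard : l ^ (q ^ 2 - 1) = 1 := by
    have : Nat.card Fˣ = q ^ 2 - 1 := by rw [Nat.card_units, Nat.card_eq_fintype_card, hF]
    rw [← this]
    exact pow_card_eq_one'
  have hq := two_le_q hF
  have hq2 : 4 ≤ q ^ 2 := by nlinarith
  have h3 : l ^ 3 = 1 := by
    have e : (2 * q - 1) * (2 * q + 1) = 4 * (q ^ 2 - 1) + 3 := by
      zify [show 1 ≤ 2 * q by omega, show 1 ≤ q ^ 2 by omega]
      ring
    have := congrArg (fun x => x ^ (2 * q + 1)) h'
    simp only [one_pow] at this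
    rw [← pow_mul, e, pow_add, mul_comm 4, pow_mul, hcard, one_pow, one_mul] at this
    exact this
  refine ⟨h3, units_sq_eq_one ?_⟩
  rw [← pow_mul, show (q + 1) * 2 = 2 * q - 1 + 3 by omega, pow_add, h', h3, mul_one]

theorem exists_flip [CharP F 2] (hF : Fintype.card F = q ^ 2) (hfr : Frame q u w f) :
    ∃ n : X, ∀ p r s, ap n (vec u w f p r s) = vec u w f s r p := by
  obtain ⟨n, hn⟩ := exists_map hF hfr !![0, 0, 1; 0, 1, 0; 1, 0, 0]
    (by simp [det_fin_three, CharTwo.neg_eq])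
    (fun y z => by simp [Matrix.mulVec, dotProduct, Fin.sum_univ_three]; ring)
  refine ⟨n, fun p r s => (hn p r s).trans ?_⟩
  congr 1 <;> simp [Matrix.mulVec, dotProduct, Fin.sum_univ_three]

theorem flip_smul_pu (hfr : Frame q u w f) {n : X} (hn : ∀ p r s, ap n (vec u w f p r s) = vec u w f s r p) :
    n • pu hfr = pf hfr :=
  smul_isoPt_eq (ne_zero_u hfr) hfr.uu (ne_zero_f hfr) hfr.ff one_ne_zero (by simpa [vec] using hn 1 0 0)

/-! ### Involutions -/

theorem eq_of_mem_root (hF : Fintype.card F = q ^ 2) {P Q : Pts} {v : X} (hv : v ∈ rootSub P) (hv1 : v ≠ 1)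
    (hQ : v • Q = Q) : Q = P := by
  obtain ⟨u, w, f, hfr, rfl⟩ := exists_frame_at hF P
  exact uni_unique_fix hF hfr (root_le_uni hF hfr hv) hv1 hQ

theorem smul_of_mem_root (hF : Fintype.card F = q ^ 2) {P : Pts} {v : X} (hv : v ∈ rootSub P) : v • P = P := by
  obtain ⟨u, w, f, hfr, rfl⟩ := exists_frame_at hF P
  exact mem_stabilizer_iff.1 (uni_le_st hfr (root_le_uni hF hfr hv))

theorem root_comm (hF : Fintype.card F = q ^ 2) {P : Pts} {v v' : X} (hv : v ∈ rootSub P)
    (hv' : v' ∈ rootSub P) : Commute v v' := by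
  obtain ⟨u, w, f, hfr, rfl⟩ := exists_frame_at hF P
  obtain ⟨β, h, rfl⟩ := (mem_root_iff hF hfr).1 hv
  obtain ⟨γ, h', rfl⟩ := (mem_root_iff hF hfr).1 hv'
  show _ * _ = _ * _
  rw [E_mul hF hfr h h', E_mul hF hfr h' h]
  exact E_congr hF hfr (h.add hF h') (h'.add hF h) (add_comm _ _) (by ring)

theorem root_sq [CharP F 2] (hF : Fintype.card F = q ^ 2) {P : Pts} {v : X} (hv : v ∈ rootSub P) : v * v = 1 := by
  obtain ⟨u, w, f, hfr, rfl⟩ := exists_frame_at hF P
  obtain ⟨β, h, rfl⟩ := (mem_root_iff hF hfr).1 hv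
  rw [E_mul hF hfr h h, ← E_zero hF hfr]
  exact E_congr hF hfr (h.add hF h) (Ok.zero hF) (add_zero 0)
    (by rw [CharTwo.add_self_eq_zero, zero_mul, sub_zero])

theorem exists_root_ne_one [CharP F 2] (hF : Fintype.card F = q ^ 2) (P : Pts) : ∃ v ∈ rootSub P, v ≠ 1 := by
  obtain ⟨u, w, f, hfr, rfl⟩ := exists_frame_at hF P
  have h : Ok q (0 : F) 1 := ok_zero_of_fixed hF (one_pow q)
  refine ⟨_, (mem_root_iff hF hfr).2 ⟨1, h, rfl⟩, fun e => ?_⟩
  rw [← E_zero hF hfr] at e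
  exact one_ne_zero (E_inj hF hfr h (Ok.zero hF) e).2

theorem mem_root_of_sq [CharP F 2] (hF : Fintype.card F = q ^ 2) (hfr : Frame q u w f) {v : X}
    (hv2 : v * v = 1) (hfix : v • pu hfr = pu hfr) : v ∈ rootSub (pu hfr) := by
  obtain ⟨l, b, β, h, e⟩ := exists_decomp hF hfr hfix
  have h2 := hv2
  rw [e, mul_assoc, ← mul_assoc (tHom hF hfr l), T_conj_E hF hfr l h, mul_assoc, ← map_mul, ← mul_assoc,
    E_mul hF hfr h (ok_scale hF l h)] at h2
  obtain ⟨hll, hb, hβ⟩ := decomp_unique hF hfr (l' := 1) (h.add hF (ok_scale hF l h)) (Ok.zero hF)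
    (by rw [h2, map_one, E_zero hF hfr, one_mul])
  obtain rfl : l = 1 := units_sq_eq_one (by rw [pow_two, hll])
  simp only [map_one, Units.val_one, one_mul, CharTwo.add_self_eq_zero, zero_sub, neg_eq_zero, mul_eq_zero,
    pow_q_eq_zero_iff hF, or_self] at hβ
  subst hβ
  exact (mem_root_iff hF hfr).2 ⟨β, h, by rw [e, map_one, mul_one]⟩

theorem exists_root_of_sq [CharP F 2] (hF : Fintype.card F = q ^ 2) {v : X} (hv2 : v * v = 1) :
    ∃ P : Pts, v ∈ rootSub P := by
  have : Fact (Nat.Prime 2) := ⟨Nat.prime_two⟩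
  obtain ⟨u, w, f, hfr⟩ := exists_frame (F := F) hF
  have hp : IsPGroup 2 (Subgroup.zpowers v) := fun x => ⟨1, by
    obtain ⟨x, i, rfl⟩ := x
    refine Subtype.ext ?_
    show ((⟨v ^ i, _⟩ : Subgroup.zpowers v) ^ (2 ^ 1) : Subgroup.zpowers v).1 = 1
    rw [pow_one, pow_two, Subgroup.coe_mul, ← _root_.zpow_add, ← two_mul, _root_.zpow_mul, _root_.zpow_two, hv2,
      _root_.one_zpow]⟩
  have hodd : ¬ 2 ∣ Nat.card Pts := by
    rw [card_pts hF hfr, ← even_iff_two_dvd]
    intro h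
    rw [Nat.even_add_one, Nat.even_pow' (by norm_num)] at h
    exact h (even_q (F := F) hF)
  obtain ⟨P, hP⟩ := hp.nonempty_fixed_point_of_prime_not_dvd_card Pts hodd
  obtain ⟨u, w, f, hfr, rfl⟩ := exists_frame_at hF P
  exact ⟨_, mem_root_of_sq hF hfr hv2 (hP ⟨v, Subgroup.mem_zpowers v⟩)⟩

/-! ### The binary actions -/

/-- What is known of a binary action of `SU₃(q)` with an involution fixing a point. -/
structure Data (Ω : Type*) [MulAction (SU 3 F q) Ω] : Prop where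
  hF : Fintype.card F = q ^ 2
  hq : 4 ≤ q
  bin : IsBinaryAct X Ω
  ne_top : ∀ ω : Ω, stabilizer X ω ≠ ⊤
  center_fix : ∀ z ∈ Subgroup.center X, ∀ ω : Ω, z • ω = ω
  exists_invol : ∀ ω : Ω, ∃ v : X, v ≠ 1 ∧ v * v = 1 ∧ v • ω = ω
  commute_fix : ∀ v v' : X, v ≠ 1 → v * v = 1 → v' ≠ 1 → v' * v' = 1 → Commute v v' →
    ∀ ω : Ω, v • ω = ω → v' • ω = ω
  mul_fix : ∀ v v' : X, v ≠ 1 → v * v = 1 → v' ≠ 1 → v' * v' = 1 → v ≠ v' →
    ∀ ω : Ω, (v * v') • ω = ω → v • ω = ω

variable [CharP F 2] {Ω : Type*} [MulAction (SU 3 F q) Ω] [IsPretransitive (SU 3 F q) Ω] [Finite Ω]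

namespace Data

theorem root_le (D : Data (F := F) (q := q) Ω) {ω : Ω} {P : Pts} {v : X} (hv : v ∈ rootSub P) (hv1 : v ≠ 1)
    (hvω : v • ω = ω) : rootSub P ≤ stabilizer X ω := fun x hx => by
  rcases eq_or_ne x 1 with rfl | hx1
  · exact one_mem _
  · exact D.commute_fix v x hv1 (root_sq D.hF hv) hx1 (root_sq D.hF hx) (root_comm D.hF hv hx) ω hvω

theorem centre_unique (D : Data (F := F) (q := q) Ω) {ω : Ω} {P P' : Pts}
    (hP : rootSub P ≤ stabilizer X ω) (hP' : rootSub P' ≤ stabilizer X ω) : P' = P := by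
  by_contra hne
  rcases two_roots D.hF (by have := D.hq; omega) hne hP hP' with h | ⟨p₀, hp₀, h1, h2⟩
  · exact D.ne_top ω h
  · exact line_absurd D.hF D.hq D.bin hp₀ h1 h2

theorem exists_centre (D : Data (F := F) (q := q) Ω) (ω : Ω) : ∃ P : Pts, rootSub P ≤ stabilizer X ω := by
  obtain ⟨v, hv1, hv2, hvω⟩ := D.exists_invol ω
  obtain ⟨P, hP⟩ := exists_root_of_sq D.hF hv2
  exact ⟨P, D.root_le hP hv1 hvω⟩

theorem centre_smul (_D : Data (F := F) (q := q) Ω) {ω : Ω} {P : Pts} (hP : rootSub P ≤ stabilizer X ω)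
    (g : X) : rootSub (g • P) ≤ stabilizer X (g • ω) := fun x hx => by
  have h1 := conj_mem_rootSub hx g⁻¹
  rw [inv_smul_smul, inv_inv] at h1
  have h2 := mem_stabilizer_iff.1 (hP h1)
  rw [mul_smul, mul_smul, inv_smul_eq_iff] at h2
  exact h2

theorem smul_centre (D : Data (F := F) (q := q) Ω) {ω : Ω} {P : Pts} (hP : rootSub P ≤ stabilizer X ω)
    {g : X} (hg : g • ω = ω) : g • P = P :=
  D.centre_unique hP (by have := D.centre_smul hP g; rwa [hg] at this)

/-- Torus elements fixing a point have second multiplier one. -/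
theorem nu_eq_one (D : Data (F := F) (q := q) Ω) (hfr : Frame q u w f) {ω : Ω}
    (hP : rootSub (pu hfr) ≤ stabilizer X ω) {l : Fˣ} (hl : tHom D.hF hfr l • ω = ω) : l ^ (q + 1) = 1 := by
  by_contra hne
  set m := l ^ (q + 1) with hm
  have hmq : (m : F) ^ q = m := by
    rw [hm, Units.val_pow_eq_pow_val, pow_succ, mul_pow, pow_q_q D.hF, mul_comm]
  have hmω : tHom D.hF hfr m • ω = ω := by
    rw [hm, map_pow]
    exact Subgroup.pow_mem (stabilizer X ω) hl _
  obtain ⟨n, hn⟩ := exists_flip D.hF hfr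
  have hm0 := m.ne_zero
  have hT : ∀ p r s, ap (tHom D.hF hfr m) (vec u w f p r s) = vec u w f ((m : F) * p) r (((m : F))⁻¹ * s) :=
    fun p r s => by rw [ap_tHom, hmq, div_self hm0, one_mul]
  have hn2 : n * n = 1 := eq_of_ap hfr fun p r s => by rw [ap_mul, hn, hn, ap_one]
  have hw2 : n * tHom D.hF hfr m * (n * tHom D.hF hfr m) = 1 := eq_of_ap hfr fun p r s => by
    rw [ap_mul, ap_mul, ap_mul, hT, hn, hT, hn, ap_one]
    congr 1 <;> field_simp
  have hn1 : n ≠ 1 := fun e => pu_ne_pf hfr (by rw [← flip_smul_pu hfr hn, e, one_smul])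
  have hne' : n ≠ n * tHom D.hF hfr m := fun e => hne (by
    have h1 : tHom D.hF hfr m = 1 := mul_eq_left.1 e.symm
    have h2 := congrArg (fun g => ap g (vec u w f 1 0 0)) h1
    simp only [hT, ap_one, mul_one, mul_zero] at h2
    exact Units.ext (vec_inj hfr h2).1)
  have hw1 : n * tHom D.hF hfr m ≠ 1 := fun e => by
    rw [mul_eq_one_iff_inv_eq, inv_eq_of_mul_eq_one_right hn2] at e
    refine pu_ne_pf hfr ?_
    rw [← flip_smul_pu hfr hn, e, T_smul_pu]
  have hnω := D.mul_fix _ _ hn1 hn2 hw1 hw2 hne' ω (by rw [← mul_assoc, hn2, one_mul]; exact hmω)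
  obtain ⟨Q, hQ⟩ := exists_root_of_sq D.hF hn2
  have hQP : Q = pu hfr := D.centre_unique hP (D.root_le hQ hn1 hnω)
  have := smul_of_mem_root D.hF hQ
  rw [hQP, flip_smul_pu hfr hn] at this
  exact pu_ne_pf hfr this.symm

/-- Torus elements fixing a point are central. -/
theorem cube_eq_one (D : Data (F := F) (q := q) Ω) (hfr : Frame q u w f) {ω : Ω}
    (hP : rootSub (pu hfr) ≤ stabilizer X ω) {l : Fˣ} (hl : tHom D.hF hfr l • ω = ω) : l ^ 3 = 1 := by
  by_contra hne
  have hq := D.hF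
  obtain ⟨m, hmdef⟩ : ∃ m : F, m = l := ⟨_, rfl⟩
  have hm0 : m ≠ 0 := hmdef ▸ l.ne_zero
  have hl1 := D.nu_eq_one hfr hP hl
  have hmq : m ^ q = m⁻¹ := by
    refine eq_inv_of_mul_eq_one_left ?_
    rw [← pow_succ, hmdef, ← Units.val_pow_eq_pow_val, hl1, Units.val_one]
  have hm3 : m ^ 3 ≠ 1 := fun e => hne (Units.ext (by rw [Units.val_pow_eq_pow_val, ← hmdef, e, Units.val_one]))
  have h2 : ∀ a : F, a + a = 0 := fun a => CharTwo.add_self_eq_zero a
  have h2' : (2 : F) = 0 := CharTwo.two_eq_zero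
  obtain ⟨β, hβ⟩ := exists_trace_eq hq (one_pow q : (1 : F) ^ q = 1)
  obtain ⟨r, hr⟩ : ∃ r : F, r = m ^ 4 + m := ⟨_, rfl⟩
  have hr0 : r ≠ 0 := by
    rw [hr, show m ^ 4 + m = m * (m ^ 3 + 1) by ring]
    exact mul_ne_zero hm0 fun e => hm3 (CharTwo.add_eq_zero.1 e)
  have hrq : r ^ q ≠ 0 := pow_ne_zero _ hr0
  have hm4 : (m ^ 4) ^ q = (m ^ 4)⁻¹ := by rw [pow_right_comm, hmq, _root_.inv_pow]
  have hq0 : (0 : F) ^ q = 0 := zero_pow (q_ne_zero hq)
  -- the second frame
  have hzz : hermForm 3 F q (vec u w f β 1 1) (vec u w f β 1 1) = 0 := by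
    rw [hfr.herm_vec hq, one_pow]
    linear_combination hβ + h2'
  have hfr' : Frame q (vec u w f (m ^ 4 * β) m (m ^ 4)) (vec u w f (β ^ q) 0 1)
      ((r ^ q)⁻¹ • vec u w f β 1 1) := by
    have hcz : hermForm 3 F q (vec u w f (m ^ 4 * β) m (m ^ 4)) (vec u w f β 1 1) = r := by
      rw [hfr.herm_vec hq, one_pow, hr]
      linear_combination (m ^ 4) * hβ
    have hwc : hermForm 3 F q (vec u w f (β ^ q) 0 1) (vec u w f (m ^ 4 * β) m (m ^ 4)) = 0 := by
      rw [hfr.herm_vec hq, zero_mul, add_zero, mul_pow, hm4]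
      linear_combination (β ^ q * (m ^ 4)⁻¹) * h2'
    have hwz : hermForm 3 F q (vec u w f (β ^ q) 0 1) (vec u w f β 1 1) = 0 := by
      rw [hfr.herm_vec hq, zero_mul, add_zero, one_pow]
      linear_combination (β ^ q) * h2'
    constructor
    · rw [hfr.herm_vec hq, hm4, mul_pow, hm4, hmq]
      field_simp
      linear_combination hβ + h2'
    · rw [herm_smul_left, herm_smul_right, hzz, mul_zero, mul_zero]
    · rw [hfr.herm_vec hq, zero_mul, add_zero, one_pow, pow_q_q hq]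
      linear_combination hβ
    · rw [herm_smul_right, hcz, _root_.inv_pow, pow_q_q hq, inv_mul_cancel₀ hr0]
    · rw [herm_smul_left, ← herm_swap hq (vec u w f (m ^ 4 * β) m (m ^ 4)), hcz, inv_mul_cancel₀ hrq]
    · exact hwc
    · exact (herm_eq_zero_symm hq).1 hwc
    · rw [herm_smul_right, hwz, mul_zero]
    · rw [herm_smul_left, (herm_eq_zero_symm hq).1 hwz, mul_zero]
  obtain ⟨g, hgu, hgf, μ, hgw⟩ := exists_frame_iso hq hfr hfr'
  have hμ0 : μ ≠ 0 := fun e => by
    have := (frame_map hfr g).ww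
    rw [hgw, e, zero_smul, herm_zero_left] at this
    exact zero_ne_one this
  -- the transvection
  have hτ : Ok q (0 : F) (r * r ^ q) := ok_zero_of_fixed hq (norm_pow_q hq r)
  set v := eSU hq (hτ.spec' (frame_map hfr g)) with hvdef
  have hvap : ∀ x, ap v x = x + (hermForm 3 F q x (vec u w f β 1 1)) • vec u w f β 1 1 := fun x => by
    rw [hvdef, ap_eSU, zero_smul, herm_zero_right hq, hgf, herm_smul_right, _root_.inv_pow, pow_q_q hq]
    simp only [smul_smul, smul_zero, add_zero]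
    congr 2 <;> first | simp | field_simp
  have hvroot : v ∈ rootSub (pf (frame_map hfr g)) := E'_mem_root hq (frame_map hfr g) hτ
  have hv2 : v * v = 1 := root_sq hq hvroot
  have hv1 : v ≠ 1 := fun e => by
    have h1 := hvap (vec u w f 1 0 0)
    rw [e, ap_one, hfr.herm_vec hq, zero_mul, one_pow, zero_mul, add_zero, add_zero, one_mul, one_smul] at h1
    have := congrArg (fun x => hermForm 3 F q x u) h1
    simp [herm_add_left, hfr.coord_u] at this
  -- the element `x = T(m⁻²)` and `y = v x`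
  set x := tHom hq hfr ((l ^ 2)⁻¹) with hxdef
  have hxω : x • ω = ω := by
    rw [hxdef, map_inv, map_pow]
    exact Subgroup.inv_mem (stabilizer X ω) (Subgroup.pow_mem (stabilizer X ω) hl 2)
  have hxap : ∀ p s t, ap x (vec u w f p s t) = vec u w f ((m ^ 2)⁻¹ * p) (m ^ 4 * s) ((m ^ 2)⁻¹ * t) := by
    intro p s t
    rw [hxdef, ap_tHom, Units.val_inv_eq_inv_val, Units.val_pow_eq_pow_val, ← hmdef, _root_.inv_pow,
      pow_right_comm, hmq]
    congr 1 <;> field_simp
  have hyc : ap (v * x) (ap g u) = m • ap g u := by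
    rw [hgu, ap_mul, hxap, hvap, hfr.herm_vec hq, one_pow, vec_smul, vec_smul]
    simp only [vec]
    match_scalars
    · field_simp
      linear_combination β * hβ + β * h2'
    · field_simp
      linear_combination hβ + m ^ 3 * h2'
    · field_simp
      linear_combination hβ + h2'
  have hyw : ap (v * x) (ap g w) = (m ^ 2)⁻¹ • ap g w := by
    rw [hgw, ap_smul, smul_comm]
    congr 1
    rw [ap_mul, hxap, hvap, hfr.herm_vec hq, one_pow, vec_smul]
    simp only [vec]
    match_scalars <;> field_simp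
    all_goals first
      | linear_combination (-(β ^ q)) * h2'
      | linear_combination (-(β * β ^ q)) * h2'
      | linear_combination (β ^ q) * h2'
      | linear_combination (β * β ^ q) * h2'
  -- `y` fixes the point `g • ω`
  have hyfix : (v * x) • (g • ω) = g • ω := by
    have hypu : (v * x) • pu (frame_map hfr g) = pu (frame_map hfr g) :=
      (smul_pu_iff (frame_map hfr g)).2 ⟨m, hm0, hyc⟩
    obtain ⟨l', b, γ, hok, e⟩ := exists_decomp hq (frame_map hfr g) hypu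
    have h1 := hyc
    rw [e, ap_mul, ap_T_u, ap_smul, ap_E_u hq (frame_map hfr g) hok] at h1
    have hl' : l' = l := Units.ext ((smul_left_injective F (ne_zero_u (frame_map hfr g)) h1).trans hmdef)
    subst hl'
    have h3 : ap (v * x) (vec (ap g u) (ap g w) (ap g f) 0 1 0) =
        vec (ap g u) (ap g w) (ap g f) 0 (m ^ 2)⁻¹ 0 := by
      simpa [vec] using hyw
    rw [e, ap_mul, ap_tHom, ap_E hq (frame_map hfr g) hok, ← hmdef, hmq] at h3
    obtain ⟨hb, -, -⟩ := vec_inj (frame_map hfr g) h3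
    simp [hm0, pow_q_eq_zero_iff hq] at hb
    subst hb
    rw [e, ← E_map hq hfr g hok, ← T_map hq hfr g]
    simp only [mul_smul, inv_smul_smul, hl]
    congr 1
    exact hP ((mem_root_iff hq hfr).2 ⟨γ, hok, rfl⟩)
  -- glue
  obtain ⟨k, hkA, hkB, hkC⟩ := glue D.bin (A := fixedBy Ω v) (B := {g • ω}) (C := {ω}) (g := v) (p := v)
    (r := v * x) (fun a ha => ha) (fun c _ => rfl) (by rintro _ rfl; exact hyfix)
    (by rintro _ rfl; rw [mul_smul, hxω])
  have hcA := D.centre_smul hP g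
  rw [← pu_map hfr g] at hcA
  obtain ⟨n, hn⟩ := exists_flip hq (frame_map hfr g)
  have hcB : rootSub (pf (frame_map hfr g)) ≤ stabilizer X (n • g • ω) := by
    rw [← flip_smul_pu (frame_map hfr g) hn]
    exact D.centre_smul hcA n
  have hkpu : k • pu (frame_map hfr g) = pu (frame_map hfr g) := D.smul_centre hcA (hkB _ rfl)
  have hkpf : k • pf (frame_map hfr g) = pf (frame_map hfr g) :=
    D.smul_centre hcB (hkA _ (hcB hvroot))
  obtain ⟨d, b, γ, hok, ek⟩ := exists_decomp hq (frame_map hfr g) hkpu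
  obtain ⟨rfl, rfl⟩ : b = 0 ∧ γ = 0 := E_pf_inj hq (frame_map hfr g) hok (Ok.zero hq) (by
    rw [E_zero hq (frame_map hfr g), one_smul]
    conv_rhs => rw [← hkpf, ek, mul_smul, T_smul_pf])
  have ek' : k = tHom hq (frame_map hfr g) d := by rw [ek, E_zero hq (frame_map hfr g), one_mul]
  have hd1 : d ^ (q + 1) = 1 := by
    refine D.nu_eq_one hfr hP (MulAction.injective g ?_)
    show g • _ • ω = g • ω
    have h := hkB _ rfl
    rw [ek', ← T_map hq hfr g, mul_smul, mul_smul, inv_smul_smul] at h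
    exact h
  have hdq : (((d : F)) ^ q)⁻¹ = d := by
    refine inv_eq_of_mul_eq_one_right ?_
    rw [← pow_succ, ← Units.val_pow_eq_pow_val, hd1, Units.val_one]
  have hcomm : Commute k v := by
    show k * v = v * k
    refine eq_of_ap (frame_map hfr g) fun p s t => ?_
    rw [ek', hvdef, ap_mul, ap_mul, ap_E0' hq (frame_map hfr g) hτ, ap_tHom, ap_tHom,
      ap_E0' hq (frame_map hfr g) hτ, hdq]
    congr 1
    ring
  have hodd : Odd (orderOf k) := by
    rw [ek']
    exact ((odd_card_units (F := F) hq).of_dvd_nat (orderOf_dvd_natCard d)).of_dvd_nat (orderOf_map_dvd _ d)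
  have hkv : (k⁻¹ * v) • ω = ω := by rw [mul_smul, ← hkC _ rfl, inv_smul_smul]
  have hvω : v • ω = ω := by
    obtain ⟨i, hi⟩ := hodd
    have h : (k⁻¹ * v) ^ orderOf k • ω = ω := Subgroup.pow_mem (stabilizer X ω) hkv _
    rwa [hcomm.inv_left.mul_pow, _root_.inv_pow, pow_orderOf_eq_one, inv_one, one_mul, hi, pow_succ, pow_mul,
      pow_two, hv2, one_pow, one_mul] at h
  have hPQ := D.centre_unique hP (D.root_le hvroot hv1 hvω)
  have hmem : ap g f ∈ (pu hfr).1 := hPQ ▸ Submodule.mem_span_singleton_self (ap g f)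
  rw [hgf] at hmem
  obtain ⟨e, he⟩ := Submodule.mem_span_singleton.1 hmem
  have := congrArg (fun x => hermForm 3 F q x w) he
  simp only [herm_smul_left, hfr.uw, mul_zero, hfr.coord_w, mul_one] at this
  exact inv_ne_zero hrq this.symm

/-- A point stabiliser consists of unipotents up to the centre. -/
theorem exists_uni (D : Data (F := F) (q := q) Ω) (hfr : Frame q u w f) {ω : Ω}
    (hP : rootSub (pu hfr) ≤ stabilizer X ω) {x : X} (hx : x • ω = ω) :
    ∃ (b β : F) (h : Ok q b β), eSU D.hF (h.spec hfr) • ω = ω ∧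
      x * (eSU D.hF (h.spec hfr))⁻¹ ∈ Subgroup.center X := by
  have hq := D.hF
  obtain ⟨l, b, β, h, rfl⟩ := exists_decomp hq hfr (D.smul_centre hP hx)
  suffices hl : mu q l = 1 by
    obtain ⟨h3, h1⟩ := central_of_mu hq hl
    have hz := T_central hq hfr h3 h1
    refine ⟨b, β, h, ?_, ?_⟩
    · rwa [mul_smul, D.center_fix _ hz ω] at hx
    · rw [Subgroup.mem_center_iff.1 hz, mul_inv_cancel_right]
      exact hz
  by_contra hmu
  have hs : (1 : F) + ((mu q l : Fˣ) : F) ≠ 0 := fun e => hmu (Units.ext (CharTwo.add_eq_zero.1 e).symm)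
  set c := b / (1 + ((mu q l : Fˣ) : F)) with hcdef
  obtain ⟨γ, hc⟩ := exists_ok hq c
  -- kill the first parameter
  set e := eSU hq (hc.spec hfr) with hedef
  have hP1 : rootSub (pu hfr) ≤ stabilizer X (e • ω) := by
    have := D.centre_smul hP e
    rwa [hedef, E_smul_pu hq hfr hc] at this
  obtain ⟨β₁, hβ₁, hfix⟩ : ∃ β₁, ∃ h₁ : Ok q (0 : F) β₁,
      (eSU hq (h₁.spec hfr) * tHom hq hfr l) • e • ω = e • ω := by
    have hA := (hc.add hq h).add hq (ok_scale hq l (hc.neg hq))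
    have hzero : c + b + ((mu q l : Fˣ) : F) * -c = 0 := by
      rw [hcdef, CharTwo.neg_eq]
      field_simp
      linear_combination b * (CharTwo.two_eq_zero (R := F)) +
        b * ((mu q l : Fˣ) : F) * (CharTwo.two_eq_zero (R := F))
    obtain ⟨β₁, hβ₁⟩ : ∃ β₁, γ + β - b * c ^ q + ((nu q l : Fˣ) : F) * γ ^ q -
        ((mu q l : Fˣ) : F) * -c * (c + b) ^ q = β₁ := ⟨_, rfl⟩
    have h₁ : Ok q (0 : F) β₁ := by
      have h' := hA
      rwa [hzero, hβ₁] at h'
    refine ⟨β₁, h₁, ?_⟩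
    rw [← E_congr hq hfr hA h₁ hzero hβ₁, ← E_mul hq hfr (hc.add hq h) (ok_scale hq l (hc.neg hq)),
      mul_assoc, ← T_conj_E hq hfr l (hc.neg hq), ← E_mul hq hfr hc h, ← E_inv hq hfr hc, ← hedef]
    simp only [mul_smul, inv_smul_smul]
    rw [mul_smul] at hx
    rw [hx]
  by_cases hnu : l ^ (q + 1) = 1
  · have hsq : tHom hq hfr (l ^ 2) • e • ω = e • ω := by
      have h2 : (eSU hq (hβ₁.spec hfr) * tHom hq hfr l) * (eSU hq (hβ₁.spec hfr) * tHom hq hfr l) =
          tHom hq hfr (l ^ 2) := by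
        have hn1 : ((nu q l : Fˣ) : F) = 1 := by
          rw [show nu q l = 1 from hnu, Units.val_one]
        rw [mul_assoc, ← mul_assoc (tHom hq hfr l), T_conj_E hq hfr l hβ₁, mul_assoc, ← map_mul, ← pow_two,
          ← mul_assoc, E_congr hq hfr (ok_scale hq l hβ₁) hβ₁ (mul_zero _) (by rw [hn1, one_mul]),
          root_sq hq ((mem_root_iff hq hfr).2 ⟨_, hβ₁, rfl⟩), one_mul]
      rw [← h2, mul_smul, hfix, hfix]
    have h6 := D.cube_eq_one hfr hP1 hsq
    have h3 : l ^ 3 = 1 := units_sq_eq_one (by rw [← pow_mul, show 3 * 2 = 2 * 3 by norm_num, pow_mul, h6])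
    refine hmu ?_
    have hq2 := two_le_q hq
    show l ^ (2 * q - 1) = 1
    calc l ^ (2 * q - 1) = l ^ (2 * q - 1) * l ^ 3 := by rw [h3, mul_one]
      _ = (l ^ (q + 1)) ^ 2 := by rw [← pow_add, ← pow_mul]; congr 1; omega
      _ = 1 := by rw [hnu, one_pow]
  · -- kill the second parameter
    have hnu' : (1 : F) + ((nu q l : Fˣ) : F) ≠ 0 := fun e' => hnu (Units.ext (CharTwo.add_eq_zero.1 e').symm)
    have hnuq : (((nu q l : Fˣ) : F)) ^ q = ((nu q l : Fˣ) : F) := by
      rw [nu_val, mul_pow, pow_q_q hq, mul_comm]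
    have hδ : Ok q (0 : F) (β₁ / (1 + ((nu q l : Fˣ) : F))) :=
      ok_zero_of_fixed hq (by rw [div_pow, add_pow_q hq, one_pow, hnuq, fixed_of_ok_zero hq hβ₁])
    set d := eSU hq (hδ.spec hfr) with hddef
    have hd : d • (e • ω) = e • ω := hP1 ((mem_root_iff hq hfr).2 ⟨_, hδ, rfl⟩)
    refine hnu (D.nu_eq_one hfr hP1 (l := l) ?_)
    have hstab : eSU hq (hβ₁.spec hfr) • (e • ω) = e • ω := hP1 ((mem_root_iff hq hfr).2 ⟨_, hβ₁, rfl⟩)
    rw [mul_smul, smul_eq_iff_eq_inv_smul] at hfix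
    rw [hfix]
    exact inv_smul_eq_iff.2 hstab.symm

/-- The point stabiliser contains no element of order four. -/
theorem param_eq_zero (D : Data (F := F) (q := q) Ω) (hfr : Frame q u w f) {ω : Ω}
    (hP : rootSub (pu hfr) ≤ stabilizer X ω) {b β : F} (hok : Ok q b β)
    (hx : eSU D.hF (hok.spec hfr) • ω = ω) : b = 0 := by
  by_contra hb
  have hq := D.hF
  have hq4 := D.hq
  have h2' : (2 : F) = 0 := CharTwo.two_eq_zero
  -- all unipotents with a parameter in the class of `b` fix known points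
  have hclass : ∀ (l : Fˣ) {β' : F} (h : Ok q (((mu q l : Fˣ) : F) * b) β'),
      eSU hq (h.spec hfr) • tHom hq hfr l • ω = tHom hq hfr l • ω := by
    intro l β' h
    have hl := (nu q l).ne_zero
    have hnuq : ((nu q l : Fˣ) : F) ^ q = ((nu q l : Fˣ) : F) := by rw [nu_val, mul_pow, pow_q_q hq, mul_comm]
    have hnorm : ((mu q l : Fˣ) : F) * ((mu q l : Fˣ) : F) ^ q = ((nu q l : Fˣ) : F) := by
      have hl0 := l.ne_zero
      have hlq := pow_ne_zero q hl0
      rw [mu_val hq, nu_val, mul_pow, div_pow, pow_q_q hq]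
      field_simp
    have h0 : Ok q b (β' / ((nu q l : Fˣ) : F)) := by
      have h' : β' + β' ^ q + ((mu q l : Fˣ) : F) * b * ((((mu q l : Fˣ) : F)) * b) ^ q = 0 := h
      rw [mul_pow] at h'
      rw [Ok, div_pow, hnuq]
      field_simp
      linear_combination h' - (b * b ^ q) * hnorm
    have hd : Ok q (0 : F) (β' / ((nu q l : Fˣ) : F) - β) := by
      rw [ok_zero_iff hq, sub_pow_q hq]
      have a1 : β' / ((nu q l : Fˣ) : F) + (β' / ((nu q l : Fˣ) : F)) ^ q + b * b ^ q = 0 := h0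
      have a2 : β + β ^ q + b * b ^ q = 0 := hok
      linear_combination a1 - a2
    have e : eSU hq (h0.spec hfr) = eSU hq (hok.spec hfr) * eSU hq (hd.spec hfr) := by
      rw [E_mul hq hfr hok hd]
      exact E_congr hq hfr h0 (hok.add hq hd) (add_zero b).symm (by ring)
    have hfix : eSU hq (h0.spec hfr) • ω = ω := by
      rw [e, mul_smul, show eSU hq (hd.spec hfr) • ω = ω from hP ((mem_root_iff hq hfr).2 ⟨_, hd, rfl⟩), hx]
    rw [← E_congr hq hfr (ok_scale hq l h0) h rfl (mul_div_cancel₀ β' hl), smul_smul, ← T_conj_E hq hfr l h0,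
      mul_smul, hfix]
  -- constants
  obtain ⟨t, ht⟩ := exists_trace_eq hq (one_pow q : (1 : F) ^ q = 1)
  have ht0 : t ≠ 0 := fun e => by rw [e, zero_pow (q_ne_zero hq), add_zero] at ht; exact zero_ne_one ht
  obtain ⟨r, hr⟩ : ∃ r : F, r = b * t := ⟨_, rfl⟩
  have hr0 : r ≠ 0 := hr ▸ mul_ne_zero hb ht0
  obtain ⟨γ, hγ⟩ : ∃ γ : Fˣ, ((mu q γ : Fˣ) : F) ^ q ≠ ((mu q γ : Fˣ) : F) := by
    by_contra! hall
    obtain ⟨g, hg⟩ := IsCyclic.exists_ofOrder_eq_natCard (α := Fˣ)
    have h1 : g ^ ((2 * q - 1) * (q - 1)) = 1 := by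
      rw [pow_mul]
      refine Units.ext ?_
      rw [Units.val_pow_eq_pow_val]
      exact pow_sub_one_eq_one hq (Units.ne_zero _) (hall g)
    have h2 := orderOf_dvd_of_pow_eq_one h1
    rw [hg, Unitary.card_units hq] at h2
    have h3 : q + 1 ∣ 2 * q - 1 := Nat.dvd_of_mul_dvd_mul_right (by omega) h2
    have h4 : q + 1 ∣ 3 := by
      have := Nat.dvd_sub (dvd_mul_left (q + 1) 2) h3
      rwa [show 2 * (q + 1) - (2 * q - 1) = 3 by omega] at this
    have := Nat.le_of_dvd (by norm_num) h4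
    omega
  obtain ⟨π', hπ'⟩ : ∃ π' : F, π' = ((mu q γ : Fˣ) : F) := ⟨_, rfl⟩
  rw [← hπ'] at hγ
  have htr : π' + π' ^ q ≠ 0 := fun e => hγ (CharTwo.add_eq_zero.1 e).symm
  obtain ⟨k, hk⟩ : ∃ k : F, k = r * r ^ q / (π' + π' ^ q) := ⟨_, rfl⟩
  have hk0 : k ≠ 0 := hk ▸ div_ne_zero (mul_ne_zero hr0 (pow_ne_zero _ hr0)) htr
  have hkq : k ^ q = k := by
    rw [hk, div_pow, norm_pow_q hq, add_pow_q hq, pow_q_q hq, add_comm (π' ^ q)]
  obtain ⟨m, hmd⟩ : ∃ m : Fˣ, m = Units.mk0 k hk0 * γ := ⟨_, rfl⟩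
  obtain ⟨p, hp⟩ : ∃ p : F, p = ((mu q m : Fˣ) : F) := ⟨_, rfl⟩
  have hpk : p = k * π' := by
    rw [hp, hmd, map_mul, Units.val_mul, mu_val hq (Units.mk0 k hk0), Units.val_mk0, hkq, div_self hk0,
      mul_one, hπ']
  have hp0 : p ≠ 0 := hp ▸ Units.ne_zero _
  have hpq0 : p ^ q ≠ 0 := pow_ne_zero _ hp0
  have hptr : p + p ^ q + r * r ^ q = 0 := by
    rw [hpk, mul_pow, hkq]
    have : k * (π' + π' ^ q) = r * r ^ q := by rw [hk, div_mul_cancel₀ _ htr]
    linear_combination this + (r * r ^ q) * h2'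
  -- the three elements
  have hx' : Ok q b (b ^ q * r) := by
    rw [Ok, mul_pow, pow_q_q hq, hr, mul_pow]
    linear_combination (b * b ^ q) * ht + (b * b ^ q) * h2'
  have hy' : Ok q (b / p) (b ^ q * r / (p ^ q * p)) := by
    have h' : b ^ q * r + (b ^ q * r) ^ q + b * b ^ q = 0 := hx'
    rw [mul_pow, pow_q_q hq] at h'
    rw [Ok, div_pow, div_pow, mul_pow, mul_pow, pow_q_q hq, pow_q_q hq]
    field_simp
    linear_combination h'
  set x := eSU hq (hx'.spec hfr) with hxdef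
  set x' := eSU hq (hy'.spec' hfr) with hx'def
  have hxω : x • ω = ω := by
    have h1 : Ok q (((mu q 1 : Fˣ) : F) * b) (b ^ q * r) := by rwa [map_one, Units.val_one, one_mul]
    have h2 := hclass 1 h1
    rw [map_one (tHom hq hfr), one_smul,
      E_congr hq hfr h1 hx' (by rw [map_one, Units.val_one, one_mul]) rfl] at h2
    exact h2
  -- the point fixed by `x'`
  obtain ⟨n, hn⟩ := exists_flip hq hfr
  have hn2 : n * n = 1 := eq_of_ap hfr fun p r s => by rw [ap_mul, hn, hn, ap_one]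
  set B := n • tHom hq hfr m⁻¹ • ω with hBdef
  have hm' : ((mu q m⁻¹ : Fˣ) : F) * b = b / p := by
    rw [map_inv, Units.val_inv_eq_inv_val, ← hp, inv_mul_eq_div]
  have hB : x' • B = B := by
    have h1 : Ok q (((mu q m⁻¹ : Fˣ) : F) * b) (b ^ q * r / (p ^ q * p)) := by rwa [hm']
    have e : x' * n = n * eSU hq (h1.spec hfr) := eq_of_ap hfr fun a c d => by
      rw [ap_mul, ap_mul, hn, hx'def, ap_E' hq hfr hy', E_congr hq hfr h1 hy' hm' rfl, ap_E hq hfr hy', hn]
    rw [hBdef, ← mul_smul x', e, mul_smul, hclass m⁻¹ h1]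
  have hcB : rootSub (pf hfr) ≤ stabilizer X B := by
    have h1 := D.centre_smul hP (tHom hq hfr m⁻¹)
    rw [T_smul_pu] at h1
    have h2 := D.centre_smul h1 n
    rwa [flip_smul_pu hfr hn] at h2
  -- the map to the third centre
  have hr' : r * r ^ q = p + p ^ q := by linear_combination hptr - (p + p ^ q) * h2'
  obtain ⟨g, hg⟩ := exists_map hq hfr !![p, r ^ q, 1; r, 1, 0; 1, 0, 0]
    (by simp [det_fin_three]; linear_combination -h2')
    (fun y z => by
      simp [Matrix.mulVec, dotProduct, Fin.sum_univ_three, add_pow_q hq, mul_pow, pow_q_q hq]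
      linear_combination (y 0 * z 0 ^ q) * hptr + (y 0 * z 1 ^ q * r + y 1 * z 0 ^ q * r ^ q) * h2')
  have hgap : ∀ a c d, ap g (vec u w f a c d) = vec u w f (p * a + r ^ q * c + d) (r * a + c) a := by
    intro a c d
    rw [hg]
    congr 1 <;> simp [Matrix.mulVec, dotProduct, Fin.sum_univ_three]
  have hgu : ap g u = vec u w f p r 1 := by simpa [vec] using hgap 1 0 0
  have hgw : ap g w = vec u w f (r ^ q) 1 0 := by simpa [vec] using hgap 0 1 0
  have hgf : ap g f = vec u w f 1 0 0 := by simpa [vec] using hgap 0 0 1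
  -- `y = x⁻¹ x'`
  set y := x⁻¹ * x' with hydef
  have hyc : ap y (ap g u) = ap g u := by
    have e : ap x (ap g u) = ap x' (ap g u) := by
      rw [hgu, hxdef, hx'def, ap_E hq hfr hx', ap_E' hq hfr hy', div_pow]
      congr 1
      · field_simp; ring
      · field_simp
      · field_simp; ring
    rw [hydef, ap_mul, ← e, ap_inv_ap]
  obtain ⟨b₃, β₃, hok₃, hy⟩ := (mem_uni_iff hq (frame_map hfr g)).1 (mem_uni.2 hyc)
  set m' := (m ^ q)⁻¹ with hm'def
  have hb₃ : b₃ = ((mu q m' : Fˣ) : F) * b := by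
    rw [hm'def, map_inv, map_pow, Units.val_inv_eq_inv_val, Units.val_pow_eq_pow_val, ← hp, inv_mul_eq_div]
    have h1 : hermForm 3 F q (ap y (ap g f)) (ap g w) = b₃ := by
      rw [hy, ap_E_f hq (frame_map hfr g) hok₃, (frame_map hfr g).coord_w]
    rw [← h1, hgf, hgw, hydef, ap_mul, hxdef, hx'def, ap_E' hq hfr hy', E_inv hq hfr hx',
      ap_E hq hfr (hx'.neg hq), hfr.herm_vec hq, zero_pow (q_ne_zero hq), pow_q_q hq, one_pow]
    have htt : t * t ^ q = t + t * t := by linear_combination t * ht - (t * t) * h2'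
    have hr2 : b * b ^ q * t * (1 + t) = p + p ^ q := by
      rw [← hr', hr, mul_pow]
      linear_combination -(b * b ^ q) * htt
    simp only [mul_zero, mul_one, zero_add, CharTwo.sub_eq_add, CharTwo.neg_eq]
    field_simp
    rw [hr]
    linear_combination b * hr2 + (b * p ^ q) * h2'
  set C := g • tHom hq hfr m' • ω with hCdef
  have hyC : y • C = C := by
    have h1 : Ok q (((mu q m' : Fˣ) : F) * b) β₃ := by rwa [← hb₃]
    rw [hy, E_congr hq (frame_map hfr g) hok₃ h1 hb₃ rfl, ← E_map hq hfr g h1, hCdef, mul_smul, mul_smul,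
      inv_smul_smul, hclass m' h1]
  have hcC : rootSub (pu (frame_map hfr g)) ≤ stabilizer X C := by
    have h1 := D.centre_smul hP (tHom hq hfr m')
    rw [T_smul_pu] at h1
    rw [pu_map hfr g]
    exact D.centre_smul h1 g
  obtain ⟨kk, hkA, hkB, hkC⟩ := glue D.bin (A := {ω}) (B := {B}) (C := {C}) (g := x) (p := x) (r := x')
    (by rintro _ rfl; exact hxω) (fun c _ => rfl) (by rintro _ rfl; exact hB)
    (by
      rintro _ rfl
      have := congrArg (x • ·) hyC
      simpa [hydef, smul_smul] using this)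
  obtain ⟨b₁, β₁, hok₁, -, hz⟩ := D.exists_uni hfr hP (hkA _ rfl)
  have hkpf : kk • pf hfr = pf hfr := D.smul_centre hcB (hkB _ rfl)
  have hzpf : (kk * (eSU hq (hok₁.spec hfr))⁻¹) • pf hfr = pf hfr := by
    obtain ⟨h, hh⟩ := exists_smul_isoPt (F := F) hq le_rfl (pu hfr) (pf hfr)
    have hzu : (kk * (eSU hq (hok₁.spec hfr))⁻¹) • pu hfr = pu hfr :=
      D.smul_centre hP (D.center_fix _ hz ω)
    rw [← hh, smul_smul, ← Subgroup.mem_center_iff.1 hz h, mul_smul, hzu]
  have hE : eSU hq (hok₁.spec hfr) • pf hfr = pf hfr := by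
    rw [mul_smul, smul_eq_iff_eq_inv_smul] at hzpf
    have h3 : (eSU hq (hok₁.spec hfr))⁻¹ • pf hfr = pf hfr := hzpf.trans (inv_smul_eq_iff.2 hkpf.symm)
    exact (inv_smul_eq_iff.1 h3).symm
  obtain ⟨rfl, rfl⟩ : b₁ = 0 ∧ β₁ = 0 :=
    E_pf_inj hq hfr hok₁ (Ok.zero hq) (by rw [hE, E_zero hq hfr, one_smul])
  rw [E_zero hq hfr, inv_one, mul_one] at hz
  have hxC : x • C = C := by rw [← hkC _ rfl, D.center_fix _ hz]
  have hx1 : x ≠ 1 := fun e => hb (E_inj hq hfr hx' (Ok.zero hq) (by rw [← hxdef, e, E_zero hq hfr])).1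
  have hxc := uni_unique_fix hq hfr (E_mem_uni hq hfr hx') hx1 (D.smul_centre hcC hxC)
  have hmem : ap g u ∈ (pu hfr).1 := hxc ▸ Submodule.mem_span_singleton_self (ap g u)
  obtain ⟨e, he⟩ := Submodule.mem_span_singleton.1 hmem
  have := congrArg (fun x => hermForm 3 F q x u) he
  simp [herm_smul_left, hfr.uu, hgu, hfr.coord_u] at this

/-- The classification. -/
theorem stabilizer_eq (D : Data (F := F) (q := q) Ω) (ω : Ω) :
    ∃ P : Pts, stabilizer X ω = rootSub P ⊔ Subgroup.center X := by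
  obtain ⟨P, hP⟩ := D.exists_centre ω
  obtain ⟨u, w, f, hfr, rfl⟩ := exists_frame_at D.hF P
  refine ⟨_, le_antisymm (fun x hx => ?_) (sup_le hP fun z hz => D.center_fix z hz ω)⟩
  obtain ⟨b, β, h, he, hz⟩ := D.exists_uni hfr hP hx
  obtain rfl := D.param_eq_zero hfr hP h he
  have := Subgroup.mul_mem_sup (T := Subgroup.center X)
    ((mem_root_iff D.hF hfr).2 ⟨β, h, rfl⟩) hz
  rwa [Subgroup.mem_center_iff.1 hz, inv_mul_cancel_right] at this

end Data

end Cfsg.Agent.H79.OneClassBinary
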